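/-
Non-solvable CN-groups.

* `eq_bot_of_odd_normal`  : no nontrivial normal subgroup of odd order
* `two_of_solvable_normal`: a nontrivial solvable normal subgroup gives a nontrivial 2-core
* `isCIT_of_pCore`        : with a nontrivial 2-core `Q` it is CIT and `C(Q) ≤ Q`
* `quotient_pCore`        : the quotient has no solvable normal subgroup, and is CIT and TI
-/
import Cfsg.Agent.Lib.CIT.Coords
import Cfsg.Agent.Lib.CN.Basic
import Cfsg.Agent.Lib.OddOrderTheorem.Basic
import Cfsg.Agent.Lib.InvertedOdd.Semisimple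

set_option autoImplicit false

open Cfsg

namespace Cfsg.Agent.CNStruct

universe u

variable {G : Type u} [Group G] [Finite G]

/-- A nontrivial solvable normal subgroup contains a nontrivial abelian one. -/
theorem exists_abelian : ∀ (n : ℕ) {M : Subgroup G}, Nat.card M ≤ n → M.Normal → Group.IsSolvable M →
    M ≠ ⊥ → ∃ K ≤ M, K.Normal ∧ K ≠ ⊥ ∧ ∀ a ∈ K, ∀ b ∈ K, a * b = b * a := by
  intro n
  induction n with
  | zero => intro M h; have := Nat.card_pos (α := M); omega
  | succ n ih =>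
    intro M h hM hs h1
    haveI := hM
    set K := ⁅M, M⁆ with hK
    by_cases hK1 : K = ⊥
    · refine ⟨M, le_rfl, hM, h1, fun a ha b hb => ?_⟩
      have := Subgroup.commutator_mem_commutator ha hb
      rw [← hK, hK1, Subgroup.mem_bot] at this
      exact commutatorElement_eq_one_iff_mul_comm.1 this
    have hlt : K < M := by
      refine lt_of_le_of_ne (Subgroup.commutator_le_self M) fun e => ?_
      haveI : Nontrivial M := M.nontrivial_iff_ne_bot.2 h1
      have := Group.IsSolvable.commutator_lt_top_of_nontrivial M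
      refine this.ne (Subgroup.map_injective M.subtype_injective ?_)
      rw [Subgroup.map_subtype_commutator, ← MonoidHom.range_eq_map, Subgroup.range_subtype]
      exact e
    haveI : K.Normal := Subgroup.commutator_normal M M
    haveI := hs
    obtain ⟨L, hLK, hL⟩ := ih (M := K) (by
      have := Set.ncard_lt_ncard (SetLike.coe_ssubset_coe.2 hlt)
      rw [← Nat.card_coe_set_eq, ← Nat.card_coe_set_eq] at this
      have e1 : Nat.card (K : Set G) = Nat.card K := rfl
      have e2 : Nat.card (M : Set G) = Nat.card M := rfl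
      omega) inferInstance
      (Cfsg.Agent.Solvable.isSolvable_of_le hlt.le) hK1
    exact ⟨L, hLK.trans hlt.le, hL⟩

variable (hCN : IsCNGroup G)
include hCN

/-- A 2-element fixes a point of a nontrivial normal 2-subgroup. -/
theorem exists_fixed {Q : Subgroup G} (hQn : Q.Normal) (hQ : IsPGroup 2 Q) (hQ1 : Q ≠ ⊥) {u : G}
    (hu : IsPGroup 2 (Subgroup.zpowers u)) : ∃ q ∈ Q, q ≠ 1 ∧ Commute u q := by
  haveI : Fact (Nat.Prime 2) := ⟨Nat.prime_two⟩
  haveI : Nontrivial Q := Q.nontrivial_iff_ne_bot.2 hQ1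
  obtain ⟨k, hk0, hk⟩ := hQ.nontrivial_iff_card.1 inferInstance
  have hS : ¬ 2 ∣ Nat.card ((Q : Set G) \ {1} : Set G) := by
    rw [Nat.card_coe_set_eq, Set.ncard_diff_singleton_of_mem Q.one_mem, ← Nat.card_coe_set_eq]
    have e : Nat.card (Q : Set G) = 2 ^ k := hk
    have : 2 ∣ 2 ^ k := dvd_pow_self 2 (by omega)
    have := Nat.one_le_two_pow (n := k)
    omega
  obtain ⟨q, ⟨hq, hq1⟩, hfix⟩ := Signalizer.exists_fixed_mem hu _ hS fun a _ x hx =>
    ⟨hQn.conj_mem x hx.1 a, fun e => hx.2 (by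
      rw [Set.mem_singleton_iff] at e ⊢
      exact conj_eq_one_iff.1 e)⟩
  exact ⟨q, hq, hq1, mul_inv_eq_iff_eq_mul.1 (hfix u (Subgroup.mem_zpowers u))⟩

omit [Finite G] in
theorem nilpotent_centralizer {Q : Subgroup G} (hQ1 : Q ≠ ⊥) :
    Group.IsNilpotent (Subgroup.centralizer (Q : Set G)) := by
  obtain ⟨⟨q, hq⟩, hq1⟩ := Q.ne_bot_iff_exists_ne_one.1 hQ1
  haveI := hCN q fun e => hq1 (Subtype.ext e)
  exact CN.isNilpotent_of_le (Subgroup.centralizer_le (Set.singleton_subset_iff.2 hq))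

/-- No normal subgroup of odd order. -/
theorem eq_bot_of_odd_normal (hG : ¬ Group.IsSolvable G) {M : Subgroup G} (hM : M.Normal)
    (hodd : Odd (Nat.card M)) : M = ⊥ := by
  classical
  haveI : Fact (Nat.Prime 2) := ⟨Nat.prime_two⟩
  by_contra hM1
  obtain ⟨Z, hZM, hZn, hZ1, hZc⟩ := exists_abelian _ le_rfl hM (OddOrderTheorem.solvable hodd) hM1
  have hZo : ∀ z ∈ Z, Odd (orderOf z) := fun z hz =>
    hodd.of_dvd_nat (Subgroup.orderOf_dvd_natCard M (hZM hz))
  haveI := hZn
  set C := Subgroup.centralizer (Z : Set G) with hC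
  haveI : C.Normal := Subgroup.normal_centralizer
  haveI hCnil := nilpotent_centralizer hCN hZ1
  by_cases hev : 2 ∣ Nat.card (G ⧸ C)
  swap
  · haveI : Group.IsSolvable (G ⧸ C) := OddOrderTheorem.solvable (Nat.not_even_iff_odd.1 fun h => hev h.two_dvd)
    exact hG (Group.isSolvable_of_ker_le_range C.subtype (QuotientGroup.mk' C) (by simp))
  obtain ⟨ub, hub⟩ := exists_prime_orderOf_dvd_card' (G := G ⧸ C) 2 hev
  obtain ⟨a, rfl⟩ := QuotientGroup.mk'_surjective C ub
  obtain ⟨i, m, hm, hn⟩ := Nat.exists_eq_pow_mul_and_not_dvd (orderOf_pos a).ne' 2 (by norm_num)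
  set u := a ^ m with hudef
  have hu2 : IsPGroup 2 (Subgroup.zpowers u) := by
    refine IsPGroup.of_card_dvd_pow (n := i) ?_
    rw [Nat.card_zpowers]
    refine orderOf_dvd_of_pow_eq_one ?_
    rw [hudef, ← pow_mul, mul_comm, ← hn, pow_orderOf_eq_one]
  have huv : QuotientGroup.mk' C u = QuotientGroup.mk' C a := by
    rw [hudef, map_pow, ← pow_mod_orderOf, hub, Nat.two_dvd_ne_zero.1 hm, pow_one]
  have huC : u ∉ C := fun h => by
    rw [← QuotientGroup.eq_one_iff] at h
    rw [← huv, show QuotientGroup.mk' C u = 1 from h, orderOf_one] at hub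
    omega
  have huu : u * u ∈ C := by
    rw [← QuotientGroup.eq_one_iff]
    have := pow_orderOf_eq_one (QuotientGroup.mk' C a)
    rw [hub, ← huv, pow_two, ← map_mul] at this
    exact this
  have huo : ∃ k, orderOf u = 2 ^ k := by
    obtain ⟨k, hk⟩ := IsPGroup.iff_card.1 hu2
    exact ⟨k, by rw [← Nat.card_zpowers, hk]⟩
  have hcop : ∀ z ∈ Z, (orderOf u).Coprime (orderOf z) := fun z hz => by
    obtain ⟨k, hk⟩ := huo
    rw [hk]
    exact (Nat.coprime_two_left.2 (hZo z hz)).pow_left k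
  have hnofix : ∀ y : G, y ≠ 1 → Commute u y → (∀ z ∈ Z, Commute z y) → False := fun y hy1 hy hyz =>
    huC (Subgroup.mem_centralizer_iff.2 fun z hz => (CN.commute_in_centralizer hCN hy1 hy (hyz z hz) (hcop z hz)).symm.eq)
  -- an involution of `G ⧸ C` inverts `Z`
  have hinv : ∀ v : G, v * v ∈ C → (∀ z ∈ Z, v * z * v⁻¹ = z → z = 1) → ∀ z ∈ Z, v * z * v⁻¹ = z⁻¹ := by
    intro v hvv hfix z hz
    set z' := v * z * v⁻¹ with hz'
    have hz'Z : z' ∈ Z := hZn.conj_mem z hz v
    have hvz' : v * z' * v⁻¹ = z := by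
      rw [hz', show v * (v * z * v⁻¹) * v⁻¹ = (v * v) * z * (v * v)⁻¹ by group,
        mul_inv_eq_iff_eq_mul]
      exact (Subgroup.mem_centralizer_iff.1 hvv z hz).symm
    have := hfix (z * z') (Z.mul_mem hz hz'Z) (by
      rw [← _root_.conj_mul, hvz', ← hz']; exact hZc _ hz'Z _ hz)
    exact eq_inv_of_mul_eq_one_right this
  have huinv := hinv u huu fun z hz h => by
    by_contra hz1
    exact hnofix z hz1 (mul_inv_eq_iff_eq_mul.1 h) fun w hw => hZc _ hw _ hz
  -- `C` has odd order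
  have hCodd : Odd (Nat.card C) := by
    by_contra hCe
    rw [Nat.not_odd_iff_even, even_iff_two_dvd] at hCe
    obtain ⟨P⟩ := (inferInstance : Nonempty (Sylow 2 C))
    have hPn : ((P : Subgroup C)).Normal := ((Group.isNilpotent_of_finite_tfae (G := C)).out 0 3 rfl rfl).mp hCnil 2 inferInstance P
    haveI : (P : Subgroup C).Characteristic := P.characteristic_of_normal hPn
    have hQn : ((P : Subgroup C).map C.subtype).Normal := Cores.map_subtype_normal_of_characteristic C _
    have hQ1 : (P : Subgroup C).map C.subtype ≠ ⊥ := by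
      rw [Ne, Subgroup.map_eq_bot_iff_of_injective _ C.subtype_injective]
      intro e
      exact P.ne_bot_of_dvd_card hCe e
    obtain ⟨q, hq, hq1, hqu⟩ := exists_fixed hCN hQn (P.isPGroup'.map _) hQ1 hu2
    exact hnofix q hq1 hqu fun z hz => Subgroup.mem_centralizer_iff.1 (Subgroup.map_subtype_le _ hq) z hz
  have hu1 : u ≠ 1 := fun e => huC (e ▸ C.one_mem)
  have huinvol : u * u = 1 := by
    obtain ⟨k, hk⟩ := huo
    have h1 : orderOf (u * u) ∣ 2 ^ k := by rw [← pow_two, ← hk]; exact orderOf_pow_dvd 2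
    exact orderOf_eq_one_iff.1 (Nat.eq_one_of_dvd_coprimes
      ((Nat.coprime_two_left.2 hCodd).pow_left k) h1 (Subgroup.orderOf_dvd_natCard C huu))
  -- `G = C · C(u)`
  haveI := hCN u hu1
  have hsurj : Function.Surjective ((QuotientGroup.mk' C).comp (Subgroup.centralizer ({u} : Set G)).subtype) := by
    intro gb
    obtain ⟨g, rfl⟩ := QuotientGroup.mk'_surjective C gb
    set v := g * u * g⁻¹ with hv
    have hvv : v * v = 1 := by rw [hv, _root_.conj_mul, huinvol, mul_one, mul_inv_cancel]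
    have huvC : u * v ∈ C := by
      refine Subgroup.mem_centralizer_iff.2 fun z hz => ?_
      have hz' := hZn.conj_mem z hz g⁻¹
      have e1 : v * z * v⁻¹ = z⁻¹ := by
        calc v * z * v⁻¹ = g * (u * (g⁻¹ * z * g⁻¹⁻¹) * u⁻¹) * g⁻¹ := by rw [hv]; group
          _ = g * (g⁻¹ * z * g⁻¹⁻¹)⁻¹ * g⁻¹ := by rw [huinv _ hz']
          _ = z⁻¹ := by group
      have e2 : u * v * z * (u * v)⁻¹ = z := by
        rw [show u * v * z * (u * v)⁻¹ = u * (v * z * v⁻¹) * u⁻¹ by group, e1, huinv _ (Z.inv_mem hz), inv_inv]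
      exact (mul_inv_eq_iff_eq_mul.1 e2).symm
    obtain ⟨d, hd, hdu⟩ := Involution.exists_conj_of_odd (Involution.orderOf_of_sq huinvol hu1)
      (Involution.orderOf_of_sq hvv (by rw [hv]; exact fun e => hu1 (conj_eq_one_iff.1 e)))
      (hCodd.of_dvd_nat (Subgroup.orderOf_dvd_natCard C huvC))
    have hcl : Subgroup.closure ({u, v} : Set G) ≤ C ⊔ Subgroup.zpowers u := by
      rw [Subgroup.closure_le]
      rintro x (rfl | rfl)
      · exact Subgroup.mem_sup_right (Subgroup.mem_zpowers u)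
      · have := mul_mem (Subgroup.mem_sup_right (S := C) (Subgroup.inv_mem _ (Subgroup.mem_zpowers u)))
          (Subgroup.mem_sup_left (T := Subgroup.zpowers u) huvC)
        rwa [inv_mul_cancel_left] at this
    obtain ⟨c, hc, e, he, rfl⟩ := Subgroup.mem_sup_of_normal_left.1 (hcl hd)
    obtain ⟨j, rfl⟩ := Subgroup.mem_zpowers_iff.1 he
    rw [show c * u ^ j * u * (c * u ^ j)⁻¹ = c * u * c⁻¹ by group, hv] at hdu
    refine ⟨⟨c⁻¹ * g, Subgroup.mem_centralizer_singleton_iff.2 ?_⟩, ?_⟩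
    · calc c⁻¹ * g * u = c⁻¹ * (g * u * g⁻¹) * g := by group
        _ = u * (c⁻¹ * g) := by rw [← hdu]; group
    · show QuotientGroup.mk' C (c⁻¹ * g) = QuotientGroup.mk' C g
      rw [map_mul, show QuotientGroup.mk' C c⁻¹ = 1 from (QuotientGroup.eq_one_iff _).2 (C.inv_mem hc),
        one_mul]
  haveI : Group.IsSolvable (G ⧸ C) := Group.isSolvable_of_surjective hsurj
  exact hG (Group.isSolvable_of_ker_le_range C.subtype (QuotientGroup.mk' C) (by simp))

/-- A nontrivial solvable normal subgroup gives a nontrivial 2-core. -/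
theorem two_of_solvable_normal (hG : ¬ Group.IsSolvable G) {R : Subgroup G} (hR : R.Normal)
    (hs : Group.IsSolvable R) (h1 : R ≠ ⊥) : pCore 2 G ≠ ⊥ := by
  obtain ⟨K, -, hKn, hK1, hKc⟩ := exists_abelian _ le_rfl hR hs h1
  let K₂ : Subgroup G :=
    { carrier := {k | k ∈ K ∧ k * k = 1}
      one_mem' := ⟨K.one_mem, mul_one 1⟩
      mul_mem' := fun {a b} ha hb => ⟨K.mul_mem ha.1 hb.1, by
        rw [(show Commute b a from hKc _ hb.1 _ ha.1).mul_mul_mul_comm, ha.2, hb.2, mul_one]⟩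
      inv_mem' := fun {a} ha => ⟨K.inv_mem ha.1, by rw [← mul_inv_rev, ha.2, inv_one]⟩ }
  have hK2n : K₂.Normal := ⟨fun k hk g => ⟨hKn.conj_mem k hk.1 g, by
    rw [_root_.conj_mul, hk.2, mul_one, mul_inv_cancel]⟩⟩
  by_cases hev : 2 ∣ Nat.card K
  · obtain ⟨k, hk⟩ := exists_prime_orderOf_dvd_card' (hp := ⟨Nat.prime_two⟩) (G := K) 2 hev
    have hp : IsPGroup 2 K₂ := fun k => ⟨1, Subtype.ext (by
      rw [pow_one, pow_two]; exact k.2.2)⟩
    intro h
    have hmem : (k : G) ∈ K₂ := ⟨k.2, by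
      rw [← Subgroup.coe_mul, Involution.mul_self hk, Subgroup.coe_one]⟩
    have := Cores.le_pCore hK2n hp hmem
    rw [h, Subgroup.mem_bot] at this
    exact Involution.ne_one (show orderOf (k : G) = 2 by rw [Subgroup.orderOf_coe, hk]) this
  · exact absurd (eq_bot_of_odd_normal hCN hG hKn (Nat.not_even_iff_odd.1 fun h => hev h.two_dvd)) hK1

/-- The 2-core contains its centraliser, and the group is CIT. -/
theorem isCIT_of_pCore (hG : ¬ Group.IsSolvable G) (hO : pCore 2 G ≠ ⊥) :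
    Subgroup.centralizer (pCore 2 G : Set G) ≤ pCore 2 G ∧ CIT.IsCIT G := by
  classical
  haveI : Fact (Nat.Prime 2) := ⟨Nat.prime_two⟩
  set Q := pCore 2 G with hQ
  haveI hQn : Q.Normal := inferInstance
  set C := Subgroup.centralizer (Q : Set G) with hC
  haveI : C.Normal := Subgroup.normal_centralizer
  haveI hCnil := nilpotent_centralizer hCN hO
  have hC2 : IsPGroup 2 C := by
    refine CIT.isPGroup_two_of_no_odd fun r hr hr2 a ha => ?_
    haveI := Fact.mk hr
    obtain ⟨P⟩ := (inferInstance : Nonempty (Sylow r C))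
    have hPn : ((P : Subgroup C)).Normal := ((Group.isNilpotent_of_finite_tfae (G := C)).out 0 3 rfl rfl).mp hCnil r inferInstance P
    haveI : (P : Subgroup C).Characteristic := P.characteristic_of_normal hPn
    have hodd : Odd (Nat.card ((P : Subgroup C).map C.subtype)) := by
      rw [Cores.card_map_subtype]
      obtain ⟨k, hk⟩ := IsPGroup.iff_card.1 P.isPGroup'
      rw [hk]; exact (hr.odd_of_ne_two hr2).pow
    have := eq_bot_of_odd_normal hCN hG (Cores.map_subtype_normal_of_characteristic C _) hodd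
    rw [Subgroup.map_eq_bot_iff_of_injective _ C.subtype_injective] at this
    exact P.ne_bot_of_dvd_card (ha ▸ orderOf_dvd_natCard a) this
  have hCQ : C ≤ Q := Cores.le_pCore inferInstance hC2
  refine ⟨hCQ, fun t ht => CIT.isPGroup_two_of_no_odd fun r hr hr2 x hx => ?_⟩
  have hcop : ∀ q ∈ Q, (orderOf (x : G)).Coprime (orderOf q) := fun q hq => by
    obtain ⟨k, hk⟩ := IsPGroup.iff_orderOf.1 (Cores.isPGroup_pCore 2 G) ⟨q, hq⟩
    rw [Subgroup.orderOf_coe, hx, ← Subgroup.orderOf_mk q hq, hk]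
    exact ((Nat.coprime_primes hr Nat.prime_two).2 hr2).pow_right k
  obtain ⟨q, hq, hq1, hqt⟩ := exists_fixed hCN hQn (Cores.isPGroup_pCore 2 G) hO
    (IsPGroup.of_card (n := 1) (show Nat.card (Subgroup.zpowers t) = 2 ^ 1 by rw [Nat.card_zpowers, ht, pow_one]))
  have hxt : Commute (x : G) t := Subgroup.mem_centralizer_singleton_iff.1 x.2
  have hxq : Commute (x : G) q := CN.commute_in_centralizer hCN (Involution.ne_one ht) hxt hqt.symm (hcop q hq)
  obtain ⟨⟨z, hz⟩, hz1⟩ := (CIT.omegaZ Q).ne_bot_iff_exists_ne_one.1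
    (CIT.omegaZ_ne_bot (Cores.isPGroup_pCore 2 G) hO)
  have hz1' : z ≠ 1 := fun e => hz1 (Subtype.ext e)
  have hxz : Commute (x : G) z :=
    CN.commute_in_centralizer hCN hq1 hxq (CIT.omegaZ_comm hz hq).symm (hcop z (CIT.omegaZ_le _ hz))
  have hxC : (x : G) ∈ C := Subgroup.mem_centralizer_iff.2 fun y hy =>
    (CN.commute_in_centralizer hCN hz1' hxz (CIT.omegaZ_comm hz hy) (hcop y hy)).symm.eq
  have := hcop _ (hCQ hxC)
  rw [Nat.coprime_self, Subgroup.orderOf_coe, hx] at this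
  exact hr.ne_one this

/-- The quotient by the 2-core. -/
theorem quotient_pCore (hG : ¬ Group.IsSolvable G) (hO : pCore 2 G ≠ ⊥) :
    InvertedOdd.NoSolvableNormal (G ⧸ pCore 2 G) ∧ CIT.IsCIT (G ⧸ pCore 2 G) ∧
      CIT.TIMod (G ⧸ pCore 2 G) ∧ ¬ Group.IsSolvable (G ⧸ pCore 2 G) := by
  haveI : Fact (Nat.Prime 2) := ⟨Nat.prime_two⟩
  haveI : Group.IsNilpotent (pCore 2 G) := (Cores.isPGroup_pCore 2 G).isNilpotent
  have hcit := (isCIT_of_pCore hCN hG hO).2
  have hns : ¬ Group.IsSolvable (G ⧸ pCore 2 G) := fun h =>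
    haveI := h
    hG (Group.isSolvable_of_ker_le_range (pCore 2 G).subtype (QuotientGroup.mk' (pCore 2 G)) (by simp))
  have hCNb := CN.isCNGroup_quotient hCN (pCore 2 G)
  refine ⟨fun M hM hs => by_contra fun h1 => ?_, hcit.quotient _ (Cores.isPGroup_pCore 2 G),
    CIT.timod_quotient (CIT.tiMod hcit hO) _ rfl, hns⟩
  exact two_of_solvable_normal hCNb hns hM hs h1 (Cores.pCore_quotient_self 2 G)

end Cfsg.Agent.CNStruct
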