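/-
Outer involutions over `PSL₂` of a prime field.

* `exists_outer_involution` : a group properly containing `PSL₂(p)` with trivial centraliser has an
  involution outside it
-/
import Cfsg.Agent.EqLemmas
import Cfsg.Agent.Lib.AutPSL.Count
import Cfsg.Agent.Lib.Involution.Basic

set_option autoImplicit false

open Cfsg Matrix
open scoped MatrixGroups

namespace Cfsg.Agent.CNStruct

universe u

theorem ringAut_eq_refl {F : Type} [Field F] [Fintype F] (hp : (Fintype.card F).Prime) (σ : F ≃+* F) :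
    σ = RingEquiv.refl F := by
  haveI := Fact.mk hp
  let f := ZMod.ringEquivOfPrime F hp rfl
  have h : (σ : F →+* F).comp f.toRingHom = f.toRingHom := Subsingleton.elim _ _
  refine RingEquiv.ext fun x => ?_
  obtain ⟨z, rfl⟩ := f.surjective x
  exact RingHom.congr_fun h z

/-- A proper extension of `PSL₂(p)` has an outer involution. -/
theorem exists_outer_involution {G : Type u} [Group G] [Finite G] {K : Subgroup G} [K.Normal]
    (hC : ∀ g : G, (∀ k ∈ K, g * k = k * g) → g = 1) (F : Type) [Field F] [Fintype F]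
    (hp : (Fintype.card F).Prime)
    (e : K ≃* Matrix.ProjectiveSpecialLinearGroup (Fin (0 + 2)) F) {v : G} (hv : v ∉ K) :
    ∃ r : G, r * r = 1 ∧ r ∉ K := by
  classical
  let φ : G →* MulAut (Matrix.ProjectiveSpecialLinearGroup (Fin (0 + 2)) F) :=
    (MulAut.congr e).toMonoidHom.comp MulAut.conjNormal
  have hφ : ∀ (g : G) x, φ g x = e (MulAut.conjNormal g (e.symm x)) := fun g x => rfl
  have hinj : Function.Injective φ := by
    refine (injective_iff_map_eq_one φ).2 fun g hg => hC g fun k hk => ?_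
    have h := congrArg (fun α : MulAut _ => e.symm (α (e ⟨k, hk⟩))) hg
    simp only [hφ, MulEquiv.symm_apply_apply, MulAut.one_apply] at h
    have h' := congrArg Subtype.val h
    rw [MulAut.conjNormal_apply] at h'
    exact mul_inv_eq_iff_eq_mul.1 h'
  have hinner : ∀ k : K, φ (k : G) = MulAut.conj (e k) := by
    intro k
    refine MulEquiv.ext fun x => ?_
    rw [hφ, MulAut.conj_apply, show MulAut.conjNormal (k : G) (e.symm x) = k * e.symm x * k⁻¹ from
      Subtype.ext (by simp [MulAut.conjNormal_apply]), map_mul, map_mul, map_inv, e.apply_symm_apply]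
  obtain ⟨g, σ, hg⟩ := AutPSL.exists_semi_of_two (φ v)
  obtain rfl := ringAut_eq_refl hp σ
  set c : F := -(g : Matrix (Fin (0 + 2)) (Fin (0 + 2)) F).det with hc
  have hdet : (!![0, c; 1, 0] : Matrix (Fin 2) (Fin 2) F).det = (g : Matrix (Fin (0 + 2)) (Fin (0 + 2)) F).det := by
    simp [Matrix.det_fin_two_of, hc]
  let h : GL (Fin (0 + 2)) F := Matrix.GeneralLinearGroup.mkOfDetNeZero !![0, c; 1, 0] (by
    rw [hdet]; exact (Matrix.GeneralLinearGroup.det g).ne_zero)
  have hh : ((h * h : GL (Fin (0 + 2)) F) : Matrix (Fin (0 + 2)) (Fin (0 + 2)) F) = c • 1 := by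
    rw [Units.val_mul]
    show (!![0, c; 1, 0] : Matrix (Fin 2) (Fin 2) F) * !![0, c; 1, 0] = c • 1
    ext i j
    fin_cases i <;> fin_cases j <;> simp [Matrix.mul_apply, Fin.sum_univ_two]
  let s : Matrix.SpecialLinearGroup (Fin (0 + 2)) F := ⟨((h * g⁻¹ : GL (Fin (0 + 2)) F) : Matrix _ _ F), by
    rw [Units.val_mul, Matrix.det_mul,
      show (h : Matrix (Fin (0 + 2)) (Fin (0 + 2)) F).det = (g : Matrix (Fin (0 + 2)) (Fin (0 + 2)) F).det from hdet,
      ← Matrix.det_mul, Units.mul_inv, Matrix.det_one]⟩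
  have hs : Matrix.SpecialLinearGroup.toGL s = h * g⁻¹ := Units.ext rfl
  set r : G := (e.symm (AutPSL.proj (Fin (0 + 2)) F s) : K) * v with hr
  have hr' : φ r = AutPSL.semi h (RingEquiv.refl F) := by
    rw [hr, map_mul, hinner, e.apply_symm_apply, hg, AutPSL.conj_eq_semi, AutPSL.semi_refl_mul, hs,
      inv_mul_cancel_right]
  refine ⟨r, hinj ?_, fun h' => hv ((K.mul_mem_cancel_left (SetLike.coe_mem _)).1 h')⟩
  rw [map_mul, map_one, hr', AutPSL.semi_refl_mul, AutPSL.semi_eq_one_iff]
  refine ⟨rfl, Subgroup.mem_center_iff.2 fun y => Units.ext ?_⟩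
  rw [Units.val_mul y (h * h), Units.val_mul (h * h) y, hh, Matrix.mul_smul, Matrix.smul_mul, mul_one, one_mul]

end Cfsg.Agent.CNStruct
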