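/-
2-groups of maximal class with a four-group: normal subgroups with a noncentral involution.

* `OuterProp`, `InnerProp` : the two possible behaviours
* `shape` : such a normal subgroup has index at most two, and one of the two behaviours occurs
-/
import Cfsg.Agent.EqLemmas
import Cfsg.Agent.Lib.Involution.Basic
import Cfsg.Agent.Lib.QDWreath.Semidihedral
import Cfsg.Agent.Lib.PGroup.MaximalClass
import Cfsg.Agent.Lib.TwoGroupRecog.Basic
import Cfsg.Agent.Lib.Cores.Basic
import Cfsg.Agent.Lib.ZStar.KleinSimple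

set_option autoImplicit false

open Cfsg

namespace Cfsg.Agent.CNStruct

variable {S : Type*} [Group S]

/-- `M` contains a noncentral involution. -/
def HasNoncentral (M : Subgroup S) : Prop :=
  ∃ u ∈ M, u * u = 1 ∧ ∃ s, s * u ≠ u * s

/-- Proper such subgroups miss an involution, whose inner commuting involutions are central. -/
def OuterProp (S : Type*) [Group S] : Prop :=
  ∀ M : Subgroup S, M.Normal → M ≠ ⊤ → HasNoncentral M → (∃ r, r * r = 1 ∧ r ∉ M) ∧
    ∀ u, u * u = 1 → u ∉ M → ∀ x ∈ M, x * x = 1 → x * u = u * x → ∀ s, s * x = x * s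

/-- Such subgroups contain all involutions. -/
def InnerProp (S : Type*) [Group S] : Prop :=
  ∀ M : Subgroup S, M.Normal → HasNoncentral M → ∀ x, x * x = 1 → x ∈ M

theorem tp_half_even {n : ℕ} (hn : 2 ≤ n) :
    QDWreath.tp n (n - 1) = 2 * QDWreath.tp n (n - 2) :=
  (QDWreath.two_mul_tp n (n - 2) (n - 1) (by omega)).symm

theorem dihedral_index {n : ℕ} (hn : 2 ≤ n) (M : Subgroup (DihedralGroup (2 ^ n))) [hM : M.Normal]
    (h : HasNoncentral M) :
    ∃ i, (∀ j, DihedralGroup.r (2 * j) ∈ M) ∧ (∀ j, DihedralGroup.sr (i + 2 * j) ∈ M) := by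
  obtain ⟨u, huM, hu, s, hs⟩ := h
  rcases u with a | i
  · exfalso
    rw [DihedralGroup.r_mul_r, DihedralGroup.one_def, DihedralGroup.r.injEq] at hu
    refine hs ?_
    rcases s with b | b
    · rw [DihedralGroup.r_mul_r, DihedralGroup.r_mul_r, add_comm]
    · rw [DihedralGroup.sr_mul_r, DihedralGroup.r_mul_sr]
      congr 1
      linear_combination hu
  · have hsr : ∀ j, DihedralGroup.sr (i + 2 * j) ∈ M := fun j => by
      have := hM.conj_mem _ huM (DihedralGroup.r (-j))
      rwa [DihedralGroup.inv_r, DihedralGroup.r_mul_sr, DihedralGroup.sr_mul_r,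
        show i - -j + - -j = i + 2 * j by ring] at this
    refine ⟨i, fun j => ?_, hsr⟩
    have := M.mul_mem (hsr 0) (hsr j)
    rwa [DihedralGroup.sr_mul_sr, show i + 2 * j - (i + 2 * 0) = 2 * j by ring] at this

theorem dihedral_shape {n : ℕ} (hn : 2 ≤ n) :
    (∀ M : Subgroup (DihedralGroup (2 ^ n)), M.Normal → HasNoncentral M → ∀ a b, a ∉ M → b ∉ M → a * b ∈ M) ∧
      OuterProp (DihedralGroup (2 ^ n)) := by
  refine ⟨fun M hM h a b ha hb => ?_, fun M hM hne h => ?_⟩
  · haveI := hM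
    obtain ⟨i, hr, hsr⟩ := dihedral_index hn M h
    have hodd_r : ∀ a, DihedralGroup.r a ∉ M → ∃ j, a = 2 * j + 1 := fun a ha => by
      obtain ⟨j, rfl | rfl⟩ := QDWreath.even_or_odd a
      · exact absurd (hr j) ha
      · exact ⟨j, rfl⟩
    have hodd_sr : ∀ a, DihedralGroup.sr a ∉ M → ∃ j, a = i + (2 * j + 1) := fun a ha => by
      obtain ⟨j, hj | hj⟩ := QDWreath.even_or_odd (a - i)
      · exact absurd (show DihedralGroup.sr a ∈ M by
          rw [show a = i + 2 * j by linear_combination hj]; exact hsr j) ha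
      · exact ⟨j, by linear_combination hj⟩
    rcases a with a | a <;> rcases b with b | b
    · obtain ⟨j, rfl⟩ := hodd_r a ha
      obtain ⟨k, rfl⟩ := hodd_r b hb
      rw [DihedralGroup.r_mul_r, show 2 * j + 1 + (2 * k + 1) = 2 * (j + k + 1) by ring]; exact hr _
    · obtain ⟨j, rfl⟩ := hodd_r a ha
      obtain ⟨k, rfl⟩ := hodd_sr b hb
      rw [DihedralGroup.r_mul_sr, show i + (2 * k + 1) - (2 * j + 1) = i + 2 * (k - j) by ring]; exact hsr _
    · obtain ⟨j, rfl⟩ := hodd_sr a ha
      obtain ⟨k, rfl⟩ := hodd_r b hb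
      rw [DihedralGroup.sr_mul_r, show i + (2 * j + 1) + (2 * k + 1) = i + 2 * (j + k + 1) by ring]; exact hsr _
    · obtain ⟨j, rfl⟩ := hodd_sr a ha
      obtain ⟨k, rfl⟩ := hodd_sr b hb
      rw [DihedralGroup.sr_mul_sr, show i + (2 * k + 1) - (i + (2 * j + 1)) = 2 * (k - j) by ring]; exact hr _
  · haveI := hM
    obtain ⟨i, hr, hsr⟩ := dihedral_index hn M h
    refine ⟨⟨DihedralGroup.sr (i + 1), by rw [DihedralGroup.sr_mul_self], fun h1 => hne ?_⟩, ?_⟩
    · have hr1 : DihedralGroup.r 1 ∈ M := by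
        have := M.mul_mem (hsr 0) h1
        rwa [DihedralGroup.sr_mul_sr, show i + 1 - (i + 2 * 0) = 1 by ring] at this
      rw [eq_top_iff]
      rintro (a | a) -
      · obtain ⟨j, rfl | rfl⟩ := QDWreath.even_or_odd a
        · exact hr j
        · have := M.mul_mem (hr j) hr1
          rwa [DihedralGroup.r_mul_r] at this
      · obtain ⟨j, hj | hj⟩ := QDWreath.even_or_odd (a - i)
        · rw [show a = i + 2 * j by linear_combination hj]; exact hsr j
        · have := M.mul_mem (hsr j) hr1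
          rwa [DihedralGroup.sr_mul_r, show i + 2 * j + 1 = a by linear_combination -hj] at this
    · intro u hu huM x hxM hx hxu s
      rcases x with a | a
      · rw [DihedralGroup.r_mul_r, DihedralGroup.one_def, DihedralGroup.r.injEq] at hx
        rcases s with b | b
        · rw [DihedralGroup.r_mul_r, DihedralGroup.r_mul_r, add_comm]
        · rw [DihedralGroup.sr_mul_r, DihedralGroup.r_mul_sr]
          congr 1
          linear_combination hx
      · exfalso
        rcases u with b | b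
        · rw [DihedralGroup.r_mul_r, DihedralGroup.one_def, DihedralGroup.r.injEq, ← two_mul,
            QDWreath.two_mul_eq_zero (by omega)] at hu
          rcases hu with rfl | rfl
          · exact huM (by rw [← DihedralGroup.one_def]; exact M.one_mem)
          · exact huM (by rw [tp_half_even hn]; exact hr _)
        · rw [DihedralGroup.sr_mul_sr, DihedralGroup.sr_mul_sr, DihedralGroup.r.injEq] at hxu
          have h2 : 2 * (b - a) = 0 := by linear_combination hxu
          have hmem : DihedralGroup.r (b - a) ∈ M := by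
            rcases (QDWreath.two_mul_eq_zero (by omega)).1 h2 with e | e
            · rw [e, ← DihedralGroup.one_def]; exact M.one_mem
            · rw [e, tp_half_even hn]; exact hr _
          have := M.mul_mem hxM hmem
          rw [DihedralGroup.sr_mul_r, show a + (b - a) = b by ring] at this
          exact huM this

theorem semidihedral_shape {n : ℕ} (d : QDWreath.QDData S n) :
    (∀ M : Subgroup S, M.Normal → HasNoncentral M → ∀ a b, a ∉ M → b ∉ M → a * b ∈ M) ∧ InnerProp S := by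
  have hh : QDWreath.tp n (n - 1) = 2 * QDWreath.tp n (n - 2) := d.half_eq_two_mul
  have hcen : ∀ s : S, s * d.a (QDWreath.tp n (n - 1)) = d.a (QDWreath.tp n (n - 1)) * s := by
    intro s
    rcases d.cases s with ⟨i, rfl⟩ | ⟨i, rfl⟩
    · rw [d.a_mul_a, d.a_mul_a, add_comm]
    · rw [d.b_mul_a, d.a_mul_b]
      congr 1
      unfold QDWreath.QDData.rexp
      linear_combination d.half_sq - QDWreath.half_mul_two d.one_le
  have key : ∀ M : Subgroup S, M.Normal → HasNoncentral M → (∀ j, d.b (2 * j) ∈ M) ∧ ∀ j, d.a (2 * j) ∈ M := by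
    rintro M hM ⟨u, huM, hu, s, hs⟩
    have hu1 : u ≠ 1 := fun e => hs (by rw [e, mul_one, one_mul])
    obtain ⟨k, rfl⟩ : ∃ k, u = d.b (2 * k) :=
      (d.orderOf_eq_two_cases (Involution.orderOf_of_sq hu hu1)).resolve_left fun e => hs (e ▸ hcen s)
    have hb : ∀ j, d.b (2 * j) ∈ M := fun j => by
      obtain ⟨l, hl⟩ := d.exists_conj_b (2 * k) (j - k)
      rw [show 2 * j = 2 * k + 2 * (j - k) by ring, ← hl]
      exact hM.conj_mem _ huM _
    refine ⟨hb, fun j => ?_⟩
    have := M.mul_mem (hb j) (hb 0)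
    rwa [d.b_mul_b, mul_zero, mul_zero, add_zero] at this
  refine ⟨fun M hM h a b ha hb => ?_, fun M hM h x hx => ?_⟩
  · obtain ⟨hbM, haM⟩ := key M hM h
    have hA : ∀ i, d.a i ∉ M → ∃ j, i = 2 * j + 1 := fun i hi => by
      obtain ⟨j, rfl | rfl⟩ := QDWreath.even_or_odd i
      · exact absurd (haM j) hi
      · exact ⟨j, rfl⟩
    have hB : ∀ i, d.b i ∉ M → ∃ j, i = 2 * j + 1 := fun i hi => by
      obtain ⟨j, rfl | rfl⟩ := QDWreath.even_or_odd i
      · exact absurd (hbM j) hi
      · exact ⟨j, rfl⟩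
    rcases d.cases a with ⟨i, rfl⟩ | ⟨i, rfl⟩ <;> rcases d.cases b with ⟨l, rfl⟩ | ⟨l, rfl⟩
    · obtain ⟨j, rfl⟩ := hA i ha
      obtain ⟨k, rfl⟩ := hA l hb
      rw [d.a_mul_a, show 2 * j + 1 + (2 * k + 1) = 2 * (j + k + 1) by ring]; exact haM _
    · obtain ⟨j, rfl⟩ := hA i ha
      obtain ⟨k, rfl⟩ := hB l hb
      rw [d.a_mul_b, show 2 * j + 1 + (2 * k + 1) = 2 * (j + k + 1) by ring]; exact hbM _
    · obtain ⟨j, rfl⟩ := hB i ha
      obtain ⟨k, rfl⟩ := hA l hb
      rw [d.b_mul_a, d.rexp_mul_odd, hh,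
        show 2 * j + 1 + (2 * QDWreath.tp n (n - 2) - (2 * k + 1)) = 2 * (j + QDWreath.tp n (n - 2) - k) by ring]
      exact hbM _
    · obtain ⟨j, rfl⟩ := hB i ha
      obtain ⟨k, rfl⟩ := hB l hb
      rw [d.b_mul_b, d.rexp_mul_odd, hh,
        show 2 * j + 1 + (2 * QDWreath.tp n (n - 2) - (2 * k + 1)) = 2 * (j + QDWreath.tp n (n - 2) - k) by ring]
      exact haM _
  · obtain ⟨hbM, haM⟩ := key M hM h
    rcases eq_or_ne x 1 with rfl | hx1
    · exact M.one_mem
    rcases d.orderOf_eq_two_cases (Involution.orderOf_of_sq hx hx1) with rfl | ⟨j, rfl⟩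
    · rw [hh]; exact haM _
    · exact hbM j

theorem shape_of_equiv {S' : Type*} [Group S'] (e : S ≃* S')
    (h : (∀ M : Subgroup S', M.Normal → HasNoncentral M → ∀ a b, a ∉ M → b ∉ M → a * b ∈ M) ∧ OuterProp S') :
    (∀ M : Subgroup S, M.Normal → HasNoncentral M → ∀ a b, a ∉ M → b ∉ M → a * b ∈ M) ∧ OuterProp S := by
  have hn : ∀ M : Subgroup S, M.Normal → (M.comap e.symm.toMonoidHom).Normal := fun M hM => hM.comap _
  have hc : ∀ M : Subgroup S, HasNoncentral M → HasNoncentral (M.comap e.symm.toMonoidHom) := by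
    rintro M ⟨u, huM, hu, s, hs⟩
    refine ⟨e u, ?_, by rw [← map_mul, hu, map_one], e s, fun h' => hs (e.injective (by rw [map_mul, map_mul, h']))⟩
    show e.symm (e u) ∈ M
    rwa [e.symm_apply_apply]
  have hm : ∀ (M : Subgroup S) (x : S), e x ∈ M.comap e.symm.toMonoidHom ↔ x ∈ M := fun M x => by
    show e.symm (e x) ∈ M ↔ _
    rw [e.symm_apply_apply]
  refine ⟨fun M hM hh a b ha hb => ?_, fun M hM hne hh => ?_⟩
  · rw [← hm M, map_mul]
    exact h.1 _ (hn M hM) (hc M hh) _ _ (fun h' => ha ((hm M a).1 h')) fun h' => hb ((hm M b).1 h')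
  · obtain ⟨⟨r, hr, hrM⟩, hout⟩ := h.2 _ (hn M hM) (fun ht => hne (eq_top_iff.2 fun x _ => (hm M x).1 (ht ▸ trivial)))
      (hc M hh)
    refine ⟨⟨e.symm r, by rw [← map_mul, hr, map_one], fun h' => hrM h'⟩, fun u hu huM x hxM hx hxu s => ?_⟩
    refine e.injective ?_
    rw [map_mul, map_mul]
    exact hout (e u) (by rw [← map_mul, hu, map_one]) (fun h' => huM ((hm M u).1 h')) (e x) ((hm M x).2 hxM)
      (by rw [← map_mul, hx, map_one]) (by rw [← map_mul, ← map_mul, hxu]) (e s)

theorem quaternion_no_four {m : ℕ} [NeZero m] {a b : QuaternionGroup m} (ha : orderOf a = 2) (hb : orderOf b = 2) :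
    a = b := by
  have key : ∀ q : QuaternionGroup m, orderOf q = 2 →
      q ∈ Subgroup.zpowers (QuaternionGroup.a 1 : QuaternionGroup m) := by
    rintro (i | i) hq
    · refine ⟨(i.val : ℤ), ?_⟩
      show (QuaternionGroup.a 1 : QuaternionGroup m) ^ (i.val : ℤ) = _
      rw [zpow_natCast, QuaternionGroup.a_one_pow, ZMod.natCast_zmod_val]
    · rw [QuaternionGroup.orderOf_xa] at hq; norm_num at hq
  exact KleinSimple.eq_of_orderOf_two (isOfFinOrder_of_finite _) (key a ha) (key b hb) ha hb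

/-- The shapes of a 2-group of order at least `8` with a self-centralising four-group. -/
theorem shape [Finite S] (h2 : IsPGroup 2 S) (h8 : 8 ≤ Nat.card S) (A : Subgroup S) (hA : Nat.card A = 2 ^ 2)
    (hsq : ∀ a ∈ A, a * a = 1) (hC : Subgroup.centralizer (A : Set S) = A) :
    (∀ M : Subgroup S, M.Normal → HasNoncentral M → ∀ a b, a ∉ M → b ∉ M → a * b ∈ M) ∧
      (OuterProp S ∨ InnerProp S) := by
  haveI : Fact (Nat.Prime 2) := ⟨Nat.prime_two⟩
  obtain ⟨n, hn⟩ := IsPGroup.iff_card.1 h2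
  have hn3 : 3 ≤ n := by
    rw [hn] at h8
    exact (Nat.pow_le_pow_iff_right (show 1 < 2 by norm_num)).1 (show 2 ^ 3 ≤ 2 ^ n from h8)
  have hcl := PGroup.maximal_class_of_selfCentralizing n S hn A hA hC
  have hlcs := PGroup.card_lcs_of_maximal_class hn3 hn hcl (i := 1) le_rfl (by omega)
  rw [Subgroup.top_lowerCentralSeries_one] at hlcs
  have hidx : (_root_.commutator S).index = 4 := by
    have h := (_root_.commutator S).card_mul_index
    rw [hlcs, hn, show 2 ^ n = 2 ^ (n - 1 - 1) * 4 by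
      rw [show (4 : ℕ) = 2 ^ 2 from rfl, ← pow_add]; congr 1; omega] at h
    exact Nat.eq_of_mul_eq_mul_left (by positivity) h
  rcases TwoGroupRecog.classify_of_index_commutator h2 hidx (by omega) with
    ⟨k, ⟨e⟩⟩ | ⟨k, hk, a, b, ha, hb, hab⟩ | ⟨k, ⟨e⟩⟩
  · obtain ⟨h1, h3⟩ := shape_of_equiv e (dihedral_shape (by omega))
    exact ⟨h1, Or.inl h3⟩
  · obtain ⟨h1, h3⟩ := semidihedral_shape (S := S) (n := k + 3)
      ⟨a, b, (by omega : 3 ≤ k + 3), hk, ha, hb, (by rw [hab, show k + 3 - 1 = k + 2 by omega])⟩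
    exact ⟨h1, Or.inr h3⟩
  · exfalso
    haveI : NeZero (2 ^ (k + 1)) := ⟨by positivity⟩
    obtain ⟨a, ha, ha1⟩ := (Subgroup.nontrivial_iff_exists_ne_one A).1
      (Finite.one_lt_card_iff_nontrivial.1 (by rw [hA]; norm_num))
    have hsub : (A : Set S) ⊆ {1, a} := fun b hb => by
      rcases eq_or_ne b 1 with h | hb1
      · exact Or.inl h
      · exact Or.inr (e.injective (quaternion_no_four
          (by rw [MulEquiv.orderOf_eq]; exact Involution.orderOf_of_sq (hsq b hb) hb1)
          (by rw [MulEquiv.orderOf_eq]; exact Involution.orderOf_of_sq (hsq a ha) ha1)))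
    have := Set.ncard_le_ncard hsub (Set.toFinite _)
    rw [← Nat.card_coe_set_eq, SetLike.coe_sort_coe, hA, Set.ncard_pair (Ne.symm ha1)] at this
    norm_num at this

end Cfsg.Agent.CNStruct
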