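/-
Non-solvable CN-groups without solvable normal subgroup.

* `isCIT`          : they are CIT
* `isSimple_ti`    : simple in the TI case
* `isSimple_four`  : simple with a pair of order `64`
* `cases_two`      : with a pair of order `8`: simple, or `PSL₂(9)` with index two
* `semisimple`     : simple, or `PSL₂(9)` with index two
-/
import Cfsg.Agent.Lib.CIT.Classify
import Cfsg.Agent.Lib.CITClass.Sylow
import Cfsg.Agent.Lib.CN.CIT
import Cfsg.Agent.Lib.CN.Minimal
import Cfsg.Agent.Lib.CNStruct.Outer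
import Cfsg.Agent.Lib.CNStruct.TwoShape
import Cfsg.Agent.Lib.CNStruct.AlmostPSL

set_option autoImplicit false

open Cfsg
open scoped Pointwise

namespace Cfsg.Agent.CNStruct

universe u

variable {G : Type u} [Group G] [Finite G]

theorem two_dvd_card (hG : ¬ Group.IsSolvable G) : 2 ∣ Nat.card G := by
  by_contra h
  exact hG (OddOrderTheorem.solvable (Nat.not_even_iff_odd.1 fun he => h he.two_dvd))

theorem pCore_eq_bot (hs : InvertedOdd.NoSolvableNormal G) : pCore 2 G = ⊥ := by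
  haveI : Fact (Nat.Prime 2) := ⟨Nat.prime_two⟩
  haveI : Group.IsNilpotent (pCore 2 G) := (Cores.isPGroup_pCore 2 G).isNilpotent
  exact hs _ inferInstance inferInstance

theorem isPGroup_maxNilpotent (hCN : IsCNGroup G) (hs : InvertedOdd.NoSolvableNormal G) {H : Subgroup G}
    (hH : CN.IsMaxNilpotent H) (heven : 2 ∣ Nat.card H) : IsPGroup 2 H := by
  have hpp : IsPrimePow (Nat.card H) := by
    by_contra hnp
    have hti := fun g (hg : H.map (MulAut.conj g).toMonoidHom ≠ H) =>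
      CN.ti_of_not_isPrimePow hCN hH hnp hg
    refine hnp (CN.EvenTI.isPrimePow_card ⟨H, fun x hx hx1 => CN.centralizer_le_of_ti hCN hH hti hx hx1,
      fun g x hx hx1 hgx => ?_, CN.maximal_coprime_index hCN hH, heven, fun hn => ?_, fun M hM hodd =>
        hs M hM (OddOrderTheorem.solvable hodd)⟩)
    rotate_left
    · haveI := hH.1
      rw [hs H hn inferInstance, Subgroup.card_bot] at heven
      omega
    rw [Subgroup.mem_normalizer_iff_map_conj_eq]
    by_contra hne
    have : g * x * g⁻¹ ∈ H ⊓ H.map (MulAut.conj g).toMonoidHom := ⟨hgx, ⟨x, hx, rfl⟩⟩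
    rw [hti g hne, Subgroup.mem_bot, conj_eq_one_iff] at this
    exact hx1 this
  obtain ⟨p, k, hp, hk, hpk⟩ := hpp
  obtain rfl := (Nat.prime_dvd_prime_iff_eq Nat.prime_two hp.nat_prime).1
    (Nat.prime_two.dvd_of_dvd_pow (hpk ▸ heven : 2 ∣ p ^ k))
  exact IsPGroup.of_card hpk.symm

theorem isCIT (hCN : IsCNGroup G) (hs : InvertedOdd.NoSolvableNormal G) : CIT.IsCIT G := by
  intro t ht
  obtain ⟨H, hle, hH⟩ := CN.exists_maximal_nilpotent (hCN t (Involution.ne_one ht))
  refine (isPGroup_maxNilpotent hCN hs hH ?_).to_le hle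
  rw [← ht]
  exact Subgroup.orderOf_dvd_natCard H (hle (Subgroup.mem_centralizer_singleton_iff.2 rfl))

theorem isSimple_ti (hcit : CIT.IsCIT G) (hs : InvertedOdd.NoSolvableNormal G) (hG : ¬ Group.IsSolvable G)
    (hTI : CIT.TIMod G) : IsSimpleGroup G := by
  haveI : Fact (Nat.Prime 2) := ⟨Nat.prime_two⟩
  obtain ⟨E, -⟩ := CIT.exists_evenTI hcit hTI (pCore_eq_bot hs) (default : Sylow 2 G) (two_dvd_card hG)
    (fun M hM hodd => hs M hM (OddOrderTheorem.solvable hodd))
  exact E.isSimple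

theorem isSimpleGroup_of (hG : ¬ Group.IsSolvable G)
    (h : ∀ N : Subgroup G, N.Normal → N ≠ ⊥ → N = ⊤) : IsSimpleGroup G := by
  haveI : Nontrivial G := by
    by_contra hn
    rw [not_nontrivial_iff_subsingleton] at hn
    exact hG inferInstance
  exact ⟨fun N hN => (eq_or_ne N ⊥).imp_right (h N hN)⟩

section Four

variable {D₁ D₂ T : Subgroup G}

theorem normalizer_le_of_four (hcit : CIT.IsCIT G) (hO : pCore 2 G = ⊥) (P : CIT.IsPair D₁ D₂ T 4)
    {N : Subgroup G} (hN : N.Normal) (hT : T ≤ N) : Subgroup.normalizer (D₁ : Set G) ≤ N := by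
  haveI : (D₁.subgroupOf (Subgroup.normalizer (D₁ : Set G))).Normal :=
    Cores.subgroupOf_normal_of_le_normalizer le_rfl
  obtain ⟨K, iK, iF, hK, ⟨e⟩⟩ := CIT.quotient_equiv hcit hO P.rad₁ P.nat₁.nat le_rfl
  haveI : CharP K 2 := charP_of_card_eq_prime_pow (f := 2) (hK.trans (by norm_num))
  obtain ⟨f⟩ := FrobSystem.sl_equiv_psl K
  haveI := PSL2.isSimpleGroup_psl (L := K) (by rw [Nat.card_eq_fintype_card, hK])
  haveI := MulEquiv.isSimpleGroup (e.trans f)
  set N₁ := Subgroup.normalizer (D₁ : Set G) with hN₁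
  set π := QuotientGroup.mk' (D₁.subgroupOf N₁) with hπ
  haveI : (N.subgroupOf N₁).Normal := hN.comap _
  have hnorm : ((N.subgroupOf N₁).map π).Normal :=
    Subgroup.Normal.map inferInstance _ (QuotientGroup.mk'_surjective _)
  have hne : (N.subgroupOf N₁).map π ≠ ⊥ := fun h => by
    rw [Subgroup.map_eq_bot_iff, hπ, QuotientGroup.ker_mk'] at h
    refine P.rad₁.T_ne (le_antisymm (fun t ht => ?_) P.rad₁.le)
    exact h (x := ⟨t, P.rad₁.T_le ht⟩) (hT ht)
  have htop := hnorm.eq_bot_or_eq_top.resolve_left hne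
  intro g hg
  obtain ⟨n, hn, he⟩ := htop.ge (Subgroup.mem_top (π ⟨g, hg⟩))
  have hd : n⁻¹ * ⟨g, hg⟩ ∈ D₁.subgroupOf N₁ := by
    rw [← QuotientGroup.eq]
    exact he
  rw [Subgroup.mem_subgroupOf, Subgroup.coe_mul, Subgroup.coe_inv] at hd
  have hm := N.mul_mem (Subgroup.mem_subgroupOf.1 hn) (hT (P.rad₁.le hd))
  rwa [mul_inv_cancel_left] at hm

theorem isSimple_four (hcit : CIT.IsCIT G) (hs : InvertedOdd.NoSolvableNormal G) (hG : ¬ Group.IsSolvable G)
    (P : CIT.IsPair D₁ D₂ T 4) : IsSimpleGroup G := by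
  classical
  haveI : Fact (Nat.Prime 2) := ⟨Nat.prime_two⟩
  have P' := CITClass.pair_symm hcit P
  have hO := pCore_eq_bot hs
  -- a normal subgroup meeting `D₁ ∩ D₂` contains `T`
  have hcont : ∀ N : Subgroup G, N.Normal → ∀ c ∈ D₁ ⊓ D₂, c ≠ 1 → c ∈ N → T ≤ N := by
    intro N hN c hc hc1 hcN
    rw [← CITClass.sup_eq P hcit]
    refine sup_le (fun x hx => ?_) fun x hx => ?_
    · rcases eq_or_ne x 1 with rfl | hx1
      · exact N.one_mem
      obtain ⟨g, -, rfl⟩ := CITClass.orbit P hcit hc hc1 hx hx1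
      exact hN.conj_mem c hcN g
    · rcases eq_or_ne x 1 with rfl | hx1
      · exact N.one_mem
      obtain ⟨g, -, rfl⟩ := CITClass.orbit P' hcit (inf_comm D₁ D₂ ▸ hc) hc1 hx hx1
      exact hN.conj_mem c hcN g
  rcases CITClass.sylow_or_index_two P hcit with ⟨S, hS⟩ | ⟨K, t, hK, hK2, htt, htK, htn, ht1⟩
  · refine isSimpleGroup_of hG fun N hN hN1 => ?_
    obtain ⟨x, hxN, -, hx1, hxc⟩ := exists_central_mem hs hN hN1 S
    rw [hS] at hxc
    have hxD : x ∈ D₁ ⊓ D₂ :=
      ⟨P.rad₁.centralizer_le hcit (CIT.mem_centralizer'.2 fun d hd => hxc d (P.rad₁.le hd)),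
        P.rad₂.centralizer_le hcit (CIT.mem_centralizer'.2 fun d hd => hxc d (P.rad₂.le hd))⟩
    have hT := hcont N hN x hxD hx1 hxN
    have hN₁ := normalizer_le_of_four hcit hO P hN hT
    have hNT : Subgroup.normalizer (T : Set G) ≤ N := by
      intro g hg
      by_contra hgN
      have hg1 : g ∉ Subgroup.normalizer (D₁ : Set G) := fun h => hgN (hN₁ h)
      obtain ⟨k, m, hm, hn⟩ := Nat.exists_eq_two_pow_mul_odd (orderOf_pos g).ne'
      have hsq := CITClass.mul_mem_N P hcit hg hg hg1 hg1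
      have hg' : g ^ m ∉ Subgroup.normalizer (D₁ : Set G) := fun h => hg1 (by
        obtain ⟨j, rfl⟩ := hm
        rw [pow_succ', pow_mul, pow_two] at h
        exact (Subgroup.mul_mem_cancel_right _ (Subgroup.pow_mem _ hsq j)).1 h)
      have h2 : IsPGroup 2 (Subgroup.zpowers (g ^ m)) := by
        refine IsPGroup.of_card_dvd_pow (n := k) ?_
        rw [Nat.card_zpowers]
        refine orderOf_dvd_of_pow_eq_one ?_
        rw [← pow_mul, mul_comm, ← hn, pow_orderOf_eq_one]
      have hgn : g ^ m ∈ Subgroup.normalizer (T : Set G) := Subgroup.pow_mem _ hg m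
      have hsup := S.3 (P.rad₁.T_two.to_sup_of_normal_left' h2 (Subgroup.zpowers_le.2 hgn))
        (hS.le.trans le_sup_left)
      exact hg' (P.rad₁.T_le (hS.le (hsup.le (Subgroup.mem_sup_right (Subgroup.mem_zpowers _)))))
    haveI := hN
    have hSN : (S : Subgroup G) ≤ N := hS.le.trans hT
    have htop := Sylow.normalizer_sup_eq_top (S.subtype hSN)
    rw [Sylow.coe_subtype, Subgroup.map_subgroupOf_eq_of_le hSN, hS, sup_eq_right.2 hNT] at htop
    exact htop
  · exfalso
    -- `T ≤ K`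
    have hT : T ≤ K := by
      obtain ⟨a, ha, ha1⟩ : ∃ a ∈ D₁, a ≠ 1 ∧ a ∈ K := by
        obtain ⟨v, hv⟩ := Subgroup.index_eq_two_iff.1 hK2
        by_contra hcon
        push Not at hcon
        have hsub : (D₁ : Set G).ncard ≤ ({1} ∪ {v⁻¹} : Set G).ncard := by
          by_contra hlt
          obtain ⟨a, ha, ha'⟩ := Set.exists_mem_notMem_of_ncard_lt_ncard (not_le.1 hlt)
          simp only [Set.mem_union, Set.mem_singleton_iff, not_or] at ha'
          have haK := hcon a ha ha'.1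
          have hall : ∀ b ∈ D₁, b ∉ K → b = a := fun b hb hbK => by
            have hm : b⁻¹ * a ∈ K := by
              haveI := hK
              exact (Subgroup.mul_mem_iff_of_index_two hK2).2 (iff_of_false (fun h => hbK (inv_mem_iff.1 h)) haK)
            by_contra hne
            exact hcon _ (D₁.mul_mem (D₁.inv_mem hb) ha) (fun e => hne (inv_mul_eq_one.1 e)) hm
          have hD : (D₁ : Set G) ⊆ {1, a} := fun b hb => by
            rcases eq_or_ne b 1 with h | hb1
            · exact Or.inl h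
            · exact Or.inr (hall b hb (hcon b hb hb1))
          have := Set.ncard_le_ncard hD (Set.toFinite _)
          rw [← Nat.card_coe_set_eq, SetLike.coe_sort_coe, CITClass.card_D P, Set.ncard_pair (Ne.symm ha'.1)] at this
          norm_num at this
        rw [← Nat.card_coe_set_eq, SetLike.coe_sort_coe, CITClass.card_D P] at hsub
        have := Set.ncard_union_le ({1} : Set G) {v⁻¹}
        rw [Set.ncard_singleton, Set.ncard_singleton] at this
        omega
      obtain ⟨c, hc, hc1⟩ := (Subgroup.nontrivial_iff_exists_ne_one _).1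
        (Finite.one_lt_card_iff_nontrivial.1 (show 1 < Nat.card ↥(D₁ ⊓ D₂) by rw [CITClass.card_C P]; norm_num))
      obtain ⟨g, -, hg⟩ := CITClass.orbit P hcit hc hc1 ha ha1.1
      refine hcont K hK c hc hc1 ?_
      have := hK.conj_mem a ha1.2 g⁻¹
      rwa [← hg, show g⁻¹ * (g * c * g⁻¹) * g⁻¹⁻¹ = c by group] at this
    have hto : orderOf t = 2 := Involution.orderOf_of_sq htt fun e => htK (e ▸ K.one_mem)
    obtain ⟨S, hS⟩ := (P.rad₁.T_two.to_sup_of_normal_left'
      (IsPGroup.of_card (n := 1) (show Nat.card (Subgroup.zpowers t) = 2 ^ 1 by rw [Nat.card_zpowers, hto, pow_one]))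
      (Subgroup.zpowers_le.2 htn)).exists_le_sylow
    have hTS : T ≤ (S : Subgroup G) := le_sup_left.trans hS
    have htS : t ∈ (S : Subgroup G) := hS (Subgroup.mem_sup_right (Subgroup.mem_zpowers t))
    have htop := P.rad₁.eq_top_inf S S.2 hTS
    have hdec : ∀ x ∈ (S : Subgroup G), x ∈ Subgroup.normalizer (T : Set G) → x ∈ T ∨ x * t ∈ T := by
      intro x hxS hxn
      by_cases hx1 : x ∈ Subgroup.normalizer (D₁ : Set G)
      · exact Or.inl (htop.le ⟨hxS, hx1⟩)
      · exact Or.inr (htop.le ⟨S.1.mul_mem hxS htS, CITClass.mul_mem_N P hcit hxn htn hx1 ht1⟩)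
    have hSeq : (S : Subgroup G) ≤ T ⊔ Subgroup.zpowers t := by
      by_contra hne
      obtain ⟨x, hxS, hxT, hxn⟩ := CIT.exists_normalizing S.2 hS fun e => hne e.ge
      refine hxT ?_
      have hxN : x ∈ Subgroup.normalizer (T : Set G) := Subgroup.mem_normalizer_fintype fun y hy => by
        have h1 : x * y * x⁻¹ ∈ T ⊔ Subgroup.zpowers t :=
          (Subgroup.mem_normalizer_iff.1 hxn y).1 (Subgroup.mem_sup_left hy)
        have h2 : x * y * x⁻¹ ∈ K := hK.conj_mem y (hT hy) x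
        have h1' : x * y * x⁻¹ ∈ ((T ⊔ Subgroup.zpowers t : Subgroup G) : Set G) := h1
        rw [Subgroup.coe_mul_of_right_le_normalizer_left T (Subgroup.zpowers t) (Subgroup.zpowers_le.2 htn),
          Set.mem_mul] at h1'
        obtain ⟨a, ha, b, hb, hab⟩ := h1'
        have hbK : b ∈ K := by
          rw [← hab] at h2
          exact (K.mul_mem_cancel_left (hT ha)).1 h2
        obtain ⟨i, rfl⟩ := Subgroup.mem_zpowers_iff.1 hb
        rcases Int.even_or_odd i with ⟨j, hj⟩ | ⟨j, hj⟩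
        · rw [hj, ← two_mul, zpow_mul, zpow_two, htt, one_zpow, mul_one] at hab
          rwa [SetLike.mem_coe, ← hab]
        · rw [hj, zpow_add, zpow_mul, zpow_two, htt, one_zpow, one_mul, zpow_one] at hbK
          exact absurd hbK htK
      rcases hdec x hxS hxN with h | h
      · exact Subgroup.mem_sup_left h
      · have := mul_mem (Subgroup.mem_sup_left (T := Subgroup.zpowers t) h)
          (Subgroup.mem_sup_right (S := T) (Subgroup.mem_zpowers t))
        rwa [mul_assoc, htt, mul_one] at this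
    have hSn : (S : Subgroup G) ≤ Subgroup.normalizer (T : Set G) :=
      hSeq.trans (sup_le Subgroup.le_normalizer (Subgroup.zpowers_le.2 htn))
    have hcases : ∀ s ∈ (S : Subgroup G), s ∉ K → s ∉ Subgroup.normalizer (D₁ : Set G) :=
      fun s hs' hsK h => hsK (hT (htop.le ⟨hs', h⟩))
    have hinK : ∀ s ∈ (S : Subgroup G), s ∈ K → s ∈ T := fun s hs' hsK =>
      (hdec s hs' (hSn hs')).resolve_right fun h => htK ((K.mul_mem_cancel_left hsK).1 (hT h))
    refine false_of_outer hcit hs S hK (fun e => ?_) hto htS htK fun u hu huo huK x hxS hxK hxo hxu s hs' => ?_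
    · have h := hT.trans e.le
      rw [le_bot_iff] at h
      have h' := P.card_T
      rw [h, Subgroup.card_bot] at h'
      norm_num at h'
    have hxT := hinK x hxS hxK
    have hu1 := hcases u hu huK
    obtain ⟨hs1, hs2⟩ := CITClass.map_swap P hcit (hSn hu) hu1
    have hux : u * x * u⁻¹ = x := by rw [← hxu, mul_inv_cancel_right]
    have hxC : x ∈ D₁ ⊓ D₂ := by
      rcases CITClass.involution_cases P hcit hxT (Involution.mul_self hxo) with h | h
      · exact ⟨h, hs1.le ⟨x, h, hux⟩⟩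
      · exact ⟨hs2.le ⟨x, h, hux⟩, h⟩
    by_cases hsK : s ∈ K
    · exact CITClass.central P hxC (hinK s hs' hsK)
    · haveI := hK
      have hsu := hinK _ (S.1.mul_mem hs' hu) ((Subgroup.mul_mem_iff_of_index_two hK2).2 (iff_of_false hsK huK))
      have h1 := CITClass.central P hxC hsu
      calc s * x = s * u * x * u⁻¹ := by
            rw [mul_assoc s u x, ← hxu, ← mul_assoc, mul_inv_cancel_right]
        _ = x * s := by rw [h1]; group

end Four

section Two

/-- Frattini: `G = N S` when the normaliser of `N ∩ S` lies in the Sylow subgroup `S`. -/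
theorem exists_prod (S : Sylow 2 G) (N : Subgroup G) (hN : N.Normal)
    (hNS : Subgroup.normalizer ((N ⊓ (S : Subgroup G) : Subgroup G) : Set G) ≤ (S : Subgroup G)) :
    ∀ g : G, ∃ n ∈ N, ∃ s ∈ (S : Subgroup G), n * s = g := by
  haveI : Fact (Nat.Prime 2) := ⟨Nat.prime_two⟩
  haveI := hN
  obtain ⟨Q, hQ⟩ := ((S.2.to_le (inf_le_right : N ⊓ (S : Subgroup G) ≤ S)).comap_of_injective N.subtype
    N.subtype_injective).exists_le_sylow
  have hQmap : (Q : Subgroup N).map N.subtype = N ⊓ (S : Subgroup G) := by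
    refine (Subgroup.eq_of_le_of_card_ge ?_ ?_).symm
    · intro y hy
      exact ⟨⟨y, hy.1⟩, hQ (show y ∈ N ⊓ (S : Subgroup G) from hy), rfl⟩
    · obtain ⟨S', hS'⟩ := (Q.2.map N.subtype).exists_le_sylow
      obtain ⟨g, rfl⟩ := MulAction.exists_smul_eq G S S'
      rw [Sylow.coe_subgroup_smul] at hS'
      have hle : (Q : Subgroup N).map N.subtype ≤ (N ⊓ (S : Subgroup G)).map (MulAut.conj g).toMonoidHom := by
        intro y hy
        obtain ⟨z, hz, hzy⟩ := hS' hy
        have hzy' : g * z * g⁻¹ = y := hzy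
        refine ⟨z, ⟨?_, hz⟩, hzy⟩
        have hyN : y ∈ N := Subgroup.map_subtype_le _ hy
        have h := hN.conj_mem y hyN g⁻¹
        rwa [← hzy', show g⁻¹ * (g * z * g⁻¹) * g⁻¹⁻¹ = z by group] at h
      refine (Subgroup.card_le_of_le hle).trans (le_of_eq ?_)
      rw [Subgroup.card_map_of_injective (f := (MulAut.conj g).toMonoidHom) (MulAut.conj g).injective]
  intro g
  have htop := Sylow.normalizer_sup_eq_top Q
  rw [hQmap] at htop
  have hg : g ∈ Subgroup.normalizer ((N ⊓ (S : Subgroup G) : Subgroup G) : Set G) ⊔ N :=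
    htop.ge (Subgroup.mem_top g)
  rw [sup_comm] at hg
  obtain ⟨n, hn, s, hs', rfl⟩ := Subgroup.mem_sup_of_normal_left.1 hg
  exact ⟨n, hn, s, hNS hs', rfl⟩

/-- A normal subgroup of index two is simple, if all nontrivial normal subgroups have index at most two. -/
theorem isSimple_index_two (hCN : IsCNGroup G) (hs : InvertedOdd.NoSolvableNormal G) {K : Subgroup G}
    (hK : K.Normal) (hK1 : K ≠ ⊥) {a : G} (ha : a ∉ K)
    (hN : ∀ N : Subgroup G, N.Normal → N ≠ ⊥ → ∀ b c, b ∉ N → c ∉ N → b * c ∈ N)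
    (hKmul : ∀ b c, b ∉ K → c ∉ K → b * c ∈ K) : IsSimpleGroup K := by
  haveI := hK
  have hKns : ¬ Group.IsSolvable K := fun h => hK1 (hs K hK h)
  refine isSimpleGroup_of hKns fun M hM hM1 => ?_
  haveI := hM
  set M₂ := M.map (MulAut.conjNormal a : K ≃* K).toMonoidHom with hM₂
  haveI : M₂.Normal := Subgroup.Normal.map inferInstance _ (MulAut.conjNormal a : K ≃* K).surjective
  have haa : a * a ∈ K := hKmul a a ha ha
  have hfix : ∀ J : Subgroup K, J.Normal → (∀ j ∈ J, (MulAut.conjNormal a : K ≃* K) j ∈ J) →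
      (J.map K.subtype).Normal := by
    intro J hJ hJa
    refine ⟨fun n hn g => ?_⟩
    obtain ⟨j, hj, rfl⟩ := hn
    have hKconj : ∀ k ∈ K, k * (j : G) * k⁻¹ ∈ J.map K.subtype := fun k hk =>
      ⟨⟨k, hk⟩ * j * ⟨k, hk⟩⁻¹, hJ.conj_mem j hj _, rfl⟩
    by_cases hg : g ∈ K
    · exact hKconj g hg
    · have hga : g * a⁻¹ ∈ K := by
        have h := hKmul g a⁻¹ hg (fun h => ha (inv_mem_iff.1 h))
        exact h
      refine ⟨⟨g * a⁻¹, hga⟩ * (MulAut.conjNormal a : K ≃* K) j * ⟨g * a⁻¹, hga⟩⁻¹,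
        hJ.conj_mem _ (hJa j hj) _, ?_⟩
      show g * a⁻¹ * ((MulAut.conjNormal a : K ≃* K) j : G) * (g * a⁻¹)⁻¹ = g * (j : G) * g⁻¹
      rw [MulAut.conjNormal_apply]; group
  have ha2 : ∀ j : K, (MulAut.conjNormal a : K ≃* K) ((MulAut.conjNormal a : K ≃* K) j) =
      ⟨a * a, haa⟩ * j * ⟨a * a, haa⟩⁻¹ := fun j => Subtype.ext (by
    simp only [MulAut.conjNormal_apply, Subgroup.coe_mul, Subgroup.coe_inv]; group)
  by_cases hint : M ⊓ M₂ = ⊥
  · exfalso
    have hcomm : ∀ m ∈ M, ∀ n ∈ M₂, m * n = n * m := fun m hm n hn =>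
      (Subgroup.commute_of_normal_of_disjoint M M₂ inferInstance inferInstance (disjoint_iff.2 hint) m n hm hn).eq
    have hM₂1 : M₂ ≠ ⊥ := by
      rw [hM₂, Ne, Subgroup.map_eq_bot_iff_of_injective (f := (MulAut.conjNormal a : K ≃* K).toMonoidHom) _
        (MulAut.conjNormal a : K ≃* K).injective]
      exact hM1
    have hnil : ∀ A B : Subgroup K, B ≠ ⊥ → (∀ m ∈ A, ∀ n ∈ B, m * n = n * m) → Group.IsSolvable A := by
      intro A B hB hAB
      obtain ⟨⟨n, hn⟩, hn1⟩ := B.ne_bot_iff_exists_ne_one.1 hB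
      haveI := CN.isCNGroup_subgroup hCN K n (fun e => hn1 (Subtype.ext e))
      exact Solvable.isSolvable_of_le
        (fun m hm => Subgroup.mem_centralizer_singleton_iff.2 (hAB m hm n hn) : A ≤ Subgroup.centralizer {n})
    haveI := hnil M M₂ hM₂1 hcomm
    haveI := hnil M₂ M hM1 fun m hm n hn => (hcomm n hn m hm).symm
    haveI hJs := Solvable.isSolvable_sup M M₂
    have hJn := hfix (M ⊔ M₂) inferInstance fun j hj => by
      obtain ⟨m, hm, n, hn, rfl⟩ := Subgroup.mem_sup_of_normal_left.1 hj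
      rw [map_mul]
      refine Subgroup.mul_mem _ (Subgroup.mem_sup_right ⟨m, hm, rfl⟩) ?_
      obtain ⟨n', hn', rfl⟩ := hn
      show (MulAut.conjNormal a : K ≃* K) ((MulAut.conjNormal a : K ≃* K) n') ∈ M ⊔ M₂
      rw [ha2]
      exact Subgroup.mem_sup_left (hM.conj_mem n' hn' _)
    have hsol : Group.IsSolvable ↥((M ⊔ M₂).map K.subtype) :=
      Group.isSolvable_of_surjective (f := K.subtype.subgroupMap (M ⊔ M₂))
        (K.subtype.subgroupMap_surjective (M ⊔ M₂))
    have h := hs _ hJn hsol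
    rw [Subgroup.map_eq_bot_iff_of_injective _ K.subtype_injective] at h
    exact hM1 (le_bot_iff.1 (le_sup_left.trans h.le))
  · have hJn := hfix (M ⊓ M₂) inferInstance fun j hj => by
      refine ⟨?_, ⟨j, hj.1, rfl⟩⟩
      obtain ⟨n', hn', rfl⟩ := hj.2
      show (MulAut.conjNormal a : K ≃* K) ((MulAut.conjNormal a : K ≃* K) n') ∈ M
      rw [ha2]
      exact hM.conj_mem n' hn' _
    have hJmul := hN _ hJn (by
      rwa [Ne, Subgroup.map_eq_bot_iff_of_injective _ K.subtype_injective])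
    refine eq_top_iff.2 fun k _ => ?_
    by_contra hk
    have hkJ : (k : G) ∉ (M ⊓ M₂).map K.subtype := by
      rintro ⟨j, hj, hjk⟩
      exact hk (Subtype.ext hjk ▸ hj.1)
    obtain ⟨j, -, hjk⟩ := hJmul (k : G) a hkJ fun h => ha (Subgroup.map_subtype_le _ h)
    have : (k : G) * a ∈ K := hjk ▸ j.2
    exact ha ((K.mul_mem_cancel_left k.2).1 this)

theorem le_of_two {D T : Subgroup G} (hcit : CIT.IsCIT G) (R : CIT.Rad D T) (nat : CIT.Natural D T 2)
    (el : D = CIT.omegaZ D) {N : Subgroup G} (hN : N.Normal) {x : G} (hx : x ∈ D) (hx1 : x ≠ 1) (hxN : x ∈ N) :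
    D ≤ N := by
  haveI : Fact (Nat.Prime 3) := ⟨Nat.prime_three⟩
  obtain ⟨y, hy⟩ := exists_prime_orderOf_dvd_card' (G := Subgroup.normalizer (D : Set G)) 3 (by
    rw [nat.card_N]; exact Dvd.dvd.mul_left (by norm_num) _)
  have hyo : orderOf (y : G) = 3 := by rw [Subgroup.orderOf_coe, hy]
  have hne : (y : G) * x * (y : G)⁻¹ ≠ x := fun h => by
    have h1 := hcit.fpf R.two hx hx1 (by rw [hyo]; decide) (mul_inv_eq_iff_eq_mul.1 h)
    rw [h1, orderOf_one] at hyo
    omega
  have hxD := (Subgroup.mem_normalizer_iff.1 y.2 x).1 hx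
  have h3 : ({1, x, (y : G) * x * (y : G)⁻¹} : Set G) ⊆ ((N ⊓ D : Subgroup G) : Set G) := by
    rintro z (rfl | rfl | rfl)
    · exact Subgroup.one_mem _
    · exact ⟨hxN, hx⟩
    · exact ⟨hN.conj_mem x hxN y, hxD⟩
  have hc := Set.ncard_le_ncard h3 (Set.toFinite _)
  rw [Set.ncard_eq_three.2 ⟨1, x, (y : G) * x * (y : G)⁻¹, Ne.symm hx1,
    fun e => hx1 (conj_eq_one_iff.1 e.symm), Ne.symm hne, rfl⟩, ← Nat.card_coe_set_eq] at hc
  have hd : Nat.card ↥(N ⊓ D) ∣ 4 := by
    have h := Subgroup.card_dvd_of_le (inf_le_right : N ⊓ D ≤ D)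
    have h4 : Nat.card D = 4 := by rw [el]; exact nat.card_W
    rwa [h4] at h
  have hc' : 3 ≤ Nat.card ↥(N ⊓ D) := hc
  have hle := Nat.le_of_dvd (by norm_num) hd
  have h4 : Nat.card D = 4 := by rw [el]; exact nat.card_W
  have heq : Nat.card ↥(N ⊓ D) = 4 := by
    interval_cases hval : Nat.card ↥(N ⊓ D)
    · norm_num at hd
    · rfl
  have h5 := Subgroup.eq_of_le_of_card_ge (inf_le_right : N ⊓ D ≤ D) (by rw [h4, heq])
  exact h5.ge.trans inf_le_left

variable {D₁ D₂ T : Subgroup G}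

theorem cases_two (hCN : IsCNGroup G) (hcit : CIT.IsCIT G) (hs : InvertedOdd.NoSolvableNormal G)
    (hG : ¬ Group.IsSolvable G) (P : CIT.IsPair D₁ D₂ T 2) :
    IsSimpleGroup G ∨ ∃ (N : Subgroup G), N.Normal ∧ N.index = 2 ∧ ∃ (F : Type) (_ : Field F) (_ : Fintype F),
      Fintype.card F = 9 ∧ Nonempty (N ≃* Matrix.ProjectiveSpecialLinearGroup (Fin 2) F) := by
  classical
  haveI : Fact (Nat.Prime 2) := ⟨Nat.prime_two⟩
  obtain ⟨S, hTS⟩ := P.rad₁.T_two.exists_le_sylow
  have hD4 : Nat.card D₁ = 2 ^ 2 := by rw [P.el₁]; exact P.nat₁.nat.card_W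
  have hD24 : Nat.card D₂ = 2 ^ 2 := by rw [P.el₂]; exact P.nat₂.nat.card_W
  have hDS : D₁ ≤ (S : Subgroup G) := P.rad₁.le.trans hTS
  have h8 : 8 ≤ Nat.card (S : Subgroup G) := by
    have h := Subgroup.card_le_of_le hTS
    rw [P.card_T] at h
    norm_num at h
    exact h
  have hC : Subgroup.centralizer ((D₁.subgroupOf (S : Subgroup G)) : Set (S : Subgroup G)) =
      D₁.subgroupOf (S : Subgroup G) := by
    refine le_antisymm (fun g hg => ?_) fun g hg => Subgroup.mem_centralizer_iff.2 fun a ha => ?_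
    · exact P.rad₁.centralizer_le hcit (CIT.mem_centralizer'.2 fun d hd =>
        congrArg Subtype.val (Subgroup.mem_centralizer_iff.1 hg ⟨d, hDS hd⟩ hd))
    · exact Subtype.ext (CIT.omegaZ_comm (P.el₁.le (show (g : G) ∈ D₁ from hg)) ha)
  obtain ⟨hidx, hshape⟩ := shape S.2 h8 (D₁.subgroupOf (S : Subgroup G))
    (by rw [Cores.card_subgroupOf hDS, hD4])
    (fun a ha => Subtype.ext (CIT.omegaZ_sq (P.el₁.le (Subgroup.mem_subgroupOf.1 ha)))) hC
  -- a noncentral involution in `D₁`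
  obtain ⟨u, huD, hus⟩ : ∃ u ∈ D₁, ∃ s : (S : Subgroup G), (s : G) * u ≠ u * s := by
    by_contra hcon
    push Not at hcon
    have hle : (S : Subgroup G) ≤ D₁ := fun s hs' => P.rad₁.centralizer_le hcit
      (CIT.mem_centralizer'.2 fun d hd => (hcon d hd ⟨s, hs'⟩).symm)
    have h := Subgroup.card_le_of_le hle
    rw [hD4] at h
    omega
  -- what a nontrivial normal subgroup contains
  have hN : ∀ N : Subgroup G, N.Normal → N ≠ ⊥ → D₁ ≤ N ∧ D₂ ≤ N ∧
      ∀ a b, a ∉ N → b ∉ N → a * b ∈ N := by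
    intro N hN hN1
    obtain ⟨x, hxN, hxS, hx1, hxc⟩ := exists_central_mem hs hN hN1 S
    have hx₁ : x ∈ D₁ := P.rad₁.centralizer_le hcit (CIT.mem_centralizer'.2 fun d hd => hxc d (hDS hd))
    have hx₂ : x ∈ D₂ := P.rad₂.centralizer_le hcit (CIT.mem_centralizer'.2 fun d hd => hxc d (hTS (P.rad₂.le hd)))
    have h1 := le_of_two hcit P.rad₁ P.nat₁.nat P.el₁ hN hx₁ hx1 hxN
    have h2 := le_of_two hcit P.rad₂ P.nat₂.nat P.el₂ hN hx₂ hx1 hxN
    refine ⟨h1, h2, ?_⟩
    haveI : (N.subgroupOf (S : Subgroup G)).Normal := hN.comap _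
    have hSidx := hidx (N.subgroupOf (S : Subgroup G)) inferInstance ⟨⟨u, hDS huD⟩, h1 huD,
      Subtype.ext (CIT.omegaZ_sq (P.el₁.le huD)), hus.choose, fun e => hus.choose_spec (congrArg Subtype.val e)⟩
    -- `G = N S`
    have hcard2 : Nat.card ↥(D₁ ⊓ D₂) = 2 := by rw [P.inf_eq]; exact P.nat₂.nat.card_fix
    have hxC : Subgroup.centralizer ({x} : Set G) = (S : Subgroup G) :=
      S.3 (hcit x (Involution.orderOf_of_sq (CIT.omegaZ_sq (P.el₁.le hx₁)) hx1))
        fun s hs' => Subgroup.mem_centralizer_singleton_iff.2 (hxc s hs')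
    have hNS : Subgroup.normalizer ((N ⊓ (S : Subgroup G) : Subgroup G) : Set G) ≤ (S : Subgroup G) := by
      intro g hg
      have hgx : g * x * g⁻¹ ∈ D₁ ⊓ D₂ := by
        have hc : ∀ d ∈ N ⊓ (S : Subgroup G), d * (g * x * g⁻¹) = g * x * g⁻¹ * d := fun d hd => by
          have hd' := (Subgroup.mem_normalizer_iff''.1 hg d).1 hd
          calc d * (g * x * g⁻¹) = g * ((g⁻¹ * d * g) * x) * g⁻¹ := by group
            _ = g * (x * (g⁻¹ * d * g)) * g⁻¹ := by rw [hxc _ hd'.2]
            _ = g * x * g⁻¹ * d := by group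
        exact ⟨P.rad₁.centralizer_le hcit (CIT.mem_centralizer'.2 fun d hd => hc d ⟨h1 hd, hDS hd⟩),
          P.rad₂.centralizer_le hcit (CIT.mem_centralizer'.2 fun d hd => hc d ⟨h2 hd, hTS (P.rad₂.le hd)⟩)⟩
      have heq : g * x * g⁻¹ = x := by
        by_contra hne
        have hsub : ({1, x, g * x * g⁻¹} : Set G) ⊆ ((D₁ ⊓ D₂ : Subgroup G) : Set G) := by
          rintro z (rfl | rfl | rfl)
          · exact Subgroup.one_mem _
          · exact ⟨hx₁, hx₂⟩
          · exact hgx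
        have h := Set.ncard_le_ncard hsub (Set.toFinite _)
        rw [Set.ncard_eq_three.2 ⟨1, x, g * x * g⁻¹, Ne.symm hx1, fun e => hx1 (conj_eq_one_iff.1 e.symm),
          Ne.symm hne, rfl⟩, ← Nat.card_coe_set_eq, SetLike.coe_sort_coe, hcard2] at h
        omega
      rw [← hxC, Subgroup.mem_centralizer_singleton_iff]
      exact mul_inv_eq_iff_eq_mul.1 heq
    have hprod := exists_prod S N hN hNS
    intro a b ha hb
    obtain ⟨n, hn, s, hs', rfl⟩ := hprod a
    obtain ⟨m, hm, s', hs'', rfl⟩ := hprod b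
    have h := hSidx ⟨s, hs'⟩ ⟨s', hs''⟩ (fun h => ha (N.mul_mem hn h)) fun h => hb (N.mul_mem hm h)
    have h' : s * s' ∈ N := h
    rw [show n * s * (m * s') = n * (s * m * s⁻¹) * (s * s') by group]
    exact N.mul_mem (N.mul_mem hn (hN.conj_mem m hm s)) h'
  by_cases hall : ∀ N : Subgroup G, N.Normal → N ≠ ⊥ → N = ⊤
  · exact Or.inl (isSimpleGroup_of hG hall)
  push Not at hall
  obtain ⟨K, hK, hK1, hKt⟩ := hall
  obtain ⟨hKD, hKD2, hKmul⟩ := hN K hK hK1
  obtain ⟨a, ha⟩ : ∃ a, a ∉ K := by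
    by_contra h
    push Not at h
    exact hKt (eq_top_iff.2 fun g _ => h g)
  have hK2 : K.index = 2 := by
    refine Subgroup.index_eq_two_iff.2 ⟨a, fun b => ?_⟩
    by_cases hb : b ∈ K
    · exact Or.inr ⟨hb, fun h => ha ((K.mul_mem_cancel_left hb).1 h)⟩
    · exact Or.inl ⟨hKmul b a hb ha, hb⟩
  haveI := hK
  have hncK : HasNoncentral (K.subgroupOf (S : Subgroup G)) := ⟨⟨u, hDS huD⟩, hKD huD,
    Subtype.ext (CIT.omegaZ_sq (P.el₁.le huD)), hus.choose, fun e => hus.choose_spec (congrArg Subtype.val e)⟩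
  rcases hshape with hout | hinn
  · exfalso
    have hSK : K.subgroupOf (S : Subgroup G) ≠ ⊤ := by
      intro h
      have hle := Subgroup.subgroupOf_eq_top.1 h
      have hd := Subgroup.index_dvd_of_le hle
      rw [hK2] at hd
      exact S.not_dvd_index hd
    obtain ⟨⟨r, hr, hrK⟩, hcomm⟩ := hout _ (hK.comap _) hSK hncK
    refine false_of_outer hcit hs S hK hK1 (r := (r : G))
      (Involution.orderOf_of_sq (congrArg Subtype.val hr) fun e => hrK (show (r : G) ∈ K by rw [e]; exact K.one_mem))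
      r.2 hrK ?_
    intro v hv hvo hvK x hxS hxK hxo hxv s hs'
    exact congrArg Subtype.val (hcomm ⟨v, hv⟩ (Subtype.ext (Involution.mul_self hvo)) hvK ⟨x, hxS⟩ hxK
      (Subtype.ext (Involution.mul_self hxo)) (Subtype.ext hxv) ⟨s, hs'⟩)
  · refine Or.inr ⟨K, hK, hK2, ?_⟩
    -- all involutions lie in `K`
    have hinv : ∀ r : G, r * r = 1 → r ∈ K := by
      intro r hr
      rcases eq_or_ne r 1 with rfl | hr1
      · exact K.one_mem
      obtain ⟨S', hS'⟩ := (IsPGroup.of_card (n := 1) (show Nat.card (Subgroup.zpowers r) = 2 ^ 1 by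
        rw [Nat.card_zpowers, Involution.orderOf_of_sq hr hr1, pow_one])).exists_le_sylow
      obtain ⟨g, rfl⟩ := MulAction.exists_smul_eq G S S'
      rw [Sylow.coe_subgroup_smul] at hS'
      obtain ⟨z, hz, hzr⟩ := hS' (Subgroup.mem_zpowers r)
      have hzr' : g * z * g⁻¹ = r := hzr
      have hz2 : z * z = 1 := by
        rw [← hzr', _root_.conj_mul] at hr
        exact conj_eq_one_iff.1 hr
      rw [← hzr']
      exact hK.conj_mem z (hinn _ (hK.comap _) hncK ⟨z, hz⟩ (Subtype.ext hz2)) g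
    -- `K` is simple
    have hKns : ¬ Group.IsSolvable K := fun h => hK1 (hs K hK h)
    haveI hKs : IsSimpleGroup K := isSimple_index_two hCN hs hK hK1 ha (fun N h1 h2 => (hN N h1 h2).2.2) hKmul
    have hKnc : ∃ b c : K, b * c ≠ c * b := by
      by_contra h
      push Not at h
      exact hKns (Group.isSolvable_of_comm h)
    have hTK : T ≤ K := by
      have h : D₁ ⊔ D₂ = T := by
        refine Subgroup.eq_of_le_of_card_ge (sup_le P.rad₁.le P.rad₂.le) ?_
        have h1 : 4 < Nat.card ↥(D₁ ⊔ D₂) := by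
          by_contra hle
          have e1 := Subgroup.eq_of_le_of_card_ge (le_sup_left : D₁ ≤ D₁ ⊔ D₂) (by rw [hD4]; omega)
          have e2 := Subgroup.eq_of_le_of_card_ge (le_sup_right : D₂ ≤ D₁ ⊔ D₂) (by rw [hD24]; omega)
          exact P.ne (e1.trans e2.symm)
        have h2 := Subgroup.card_dvd_of_le (sup_le P.rad₁.le P.rad₂.le : D₁ ⊔ D₂ ≤ T)
        rw [P.card_T] at h2 ⊢
        obtain ⟨i, hi, hi'⟩ := (Nat.dvd_prime_pow Nat.prime_two).1 h2
        rw [hi'] at h1 ⊢
        interval_cases i <;> revert h1 <;> norm_num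
      rw [← h]
      exact sup_le hKD hKD2
    obtain ⟨Q, hQ⟩ := (P.rad₁.T_two.comap_of_injective K.subtype K.subtype_injective).exists_le_sylow
    have hDQ : D₁.subgroupOf K ≤ (Q : Subgroup K) := fun d hd => hQ (P.rad₁.le hd)
    have hcitK := hcit.subgroup K
    obtain ⟨F, iF, iF', hodd, ⟨e⟩⟩ := CIT.psl_odd_of_selfCent (G := K) hKnc hcitK Q hDQ
      (by rw [Cores.card_subgroupOf hKD, hD4])
      (fun b hb c hc => Subtype.ext (CIT.omegaZ_comm (P.el₁.le hc) hb))
      (fun g hg => P.rad₁.centralizer_le hcit (CIT.mem_centralizer'.2 fun d hd =>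
        congrArg Subtype.val (Subgroup.mem_centralizer_iff.1 hg ⟨d, hKD hd⟩ hd)))
      (by
        have h := Subgroup.card_le_of_le hQ
        rw [show Nat.card ↥(T.comap K.subtype) = Nat.card T from Cores.card_subgroupOf hTK, P.card_T] at h
        norm_num at h
        exact h)
    have h2K : 2 ∣ Nat.card K := two_dvd_normal hs hK hK1
    rcases CIT.card_of_iso hcitK h2K F e with h9 | ⟨n, hn⟩ | ⟨hp, -⟩
    · exact ⟨F, iF, iF', h9, ⟨e⟩⟩
    · exfalso
      have h1 := Fintype.one_lt_card (α := F)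
      rcases Nat.eq_zero_or_pos n with rfl | hn0
      · rw [hn] at h1; norm_num at h1
      · rw [hn] at hodd
        exact (Nat.not_even_iff_odd.2 hodd) (even_two.pow_of_ne_zero (by omega))
    · exfalso
      obtain ⟨r, hr, hrK⟩ := exists_outer_involution (K := K) (fun g hg => by
        by_contra hg1
        haveI := hCN g hg1
        exact hKns (Solvable.isSolvable_of_le
          (fun k hk => Subgroup.mem_centralizer_singleton_iff.2 (hg k hk).symm : K ≤ Subgroup.centralizer {g})))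
        F hp e ha
      exact hrK (hinv r hr)

end Two

/-- A non-solvable CN-group without solvable normal subgroup is simple, or `PSL₂(9)` extended by two. -/
theorem semisimple (hCN : IsCNGroup G) (hs : InvertedOdd.NoSolvableNormal G) (hG : ¬ Group.IsSolvable G) :
    IsSimpleGroup G ∨ ∃ (N : Subgroup G), N.Normal ∧ N.index = 2 ∧ ∃ (F : Type) (_ : Field F) (_ : Fintype F),
      Fintype.card F = 9 ∧ Nonempty (N ≃* Matrix.ProjectiveSpecialLinearGroup (Fin 2) F) := by
  have hcit := isCIT hCN hs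
  by_cases hTI : CIT.TIMod G
  · exact Or.inl (isSimple_ti hcit hs hG hTI)
  obtain ⟨D₁, D₂, T, q, hp⟩ := CIT.exists_pair hcit (CIT.hyp hcit) (pCore_eq_bot hs) hTI
  rcases hp.q_cases hcit (pCore_eq_bot hs) with rfl | rfl
  · exact cases_two hCN hcit hs hG hp
  · exact Or.inl (isSimple_four hcit hs hG hp)

end Cfsg.Agent.CNStruct
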