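/-
A non-solvable CN-group with a nontrivial 2-core: the core is elementary abelian and the quotient is
`PSL₂(2ⁿ)` or a Suzuki group.

* `extension`
-/
import Cfsg.Agent.Lib.CNStruct.Semisimple
import Cfsg.Agent.Lib.CNStruct.Radical
import Cfsg.Agent.Lib.FrobSystem.Main
import Cfsg.Agent.Lib.FrobSystem.SuzukiIdent
import Cfsg.Agent.Lib.SzModule.Main
import Cfsg.Agent.S3050

set_option autoImplicit false
set_option linter.style.haveILetI false

open Cfsg

namespace Cfsg.Agent.CNStruct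

universe u

variable {G : Type u} [Group G] [Finite G]

/-- In a CIT group an element of odd order fixes no nontrivial element of a 2-subgroup. -/
theorem eq_one_of_commute (hG : CIT.IsCIT G) {Q : Subgroup G} (hQ : IsPGroup 2 Q) {y : G}
    (hy : Odd (orderOf y)) (hy1 : y ≠ 1) {q : G} (hq : q ∈ Q) (hc : Commute y q) : q = 1 := by
  by_contra hq1
  haveI : Fact (Nat.Prime 2) := ⟨Nat.prime_two⟩
  obtain ⟨k, hk⟩ := IsPGroup.iff_orderOf.1 hQ ⟨q, hq⟩
  rw [Subgroup.orderOf_mk] at hk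
  have hk0 : k ≠ 0 := by rintro rfl; exact hq1 (orderOf_eq_one_iff.1 (by simpa using hk))
  set t := q ^ (orderOf q / 2)
  have ht : orderOf t = 2 := orderOf_pow_orderOf_div (orderOf_pos q).ne' (hk ▸ dvd_pow_self 2 hk0)
  obtain ⟨j, hj⟩ := IsPGroup.iff_orderOf.1 (hG t ht)
    ⟨y, Subgroup.mem_centralizer_singleton_iff.2 (hc.pow_right _).eq⟩
  rw [Subgroup.orderOf_mk] at hj
  refine hy1 (orderOf_eq_one_iff.1 ?_)
  exact Nat.Coprime.eq_one_of_dvd ((Nat.coprime_two_right.2 hy).pow_right j) (dvd_of_eq hj)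

/-- The third case. -/
theorem extension (hG : ¬ Group.IsSolvable G) (hCN : IsCNGroup G) (hO : pCore 2 G ≠ ⊥) :
    IsMulCommutative (pCore 2 G) ∧ (∀ x ∈ pCore 2 G, x * x = 1) ∧
      ((∃ (F : Type) (_ : Field F) (_ : Fintype F), CharP F 2 ∧ 4 ≤ Fintype.card F ∧
        Nonempty (G ⧸ pCore 2 G ≃* Matrix.ProjectiveSpecialLinearGroup (Fin 2) F)) ∨
      Cfsg.IsSuzuki (G ⧸ pCore 2 G)) := by
  haveI : Fact (Nat.Prime 2) := ⟨Nat.prime_two⟩
  obtain ⟨-, hcit⟩ := isCIT_of_pCore hCN hG hO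
  obtain ⟨hs, hcitb, hTI, hns⟩ := quotient_pCore hCN hG hO
  have hQ2 := Cores.isPGroup_pCore 2 G
  set Q := pCore 2 G
  have hcen : ∀ y : G, Odd (orderOf y) → y ≠ 1 → ∀ q ∈ Q, Commute y q → q = 1 :=
    fun y hy hy1 q hq hc => eq_one_of_commute hcit hQ2 hy hy1 hq hc
  obtain ⟨E, -⟩ := CIT.exists_evenTI hcitb hTI (pCore_eq_bot hs) (default : Sylow 2 (G ⧸ Q))
    (two_dvd_card hns) (fun M hM hodd => hs M hM (OddOrderTheorem.solvable hodd))
  obtain ⟨hsimple, hcl⟩ := FrobSystem.classify_tiHyp hs (M := E.N) (F := E.H)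
    ⟨E.H_le_N, fun m hm x hx => (Subgroup.mem_normalizer_iff.1 hm x).1 hx,
      fun a _ haH x hx h => by_contra fun hx1 => haH (E.mem_of_commute hx hx1 h.symm),
      fun g hg x hx hgx => by_contra fun hx1 => hg (E.ti g x hx hx1 hgx),
      (by obtain ⟨i, hi, hio⟩ := E.exists_inv; exact ⟨i, E.inv_mem hio hi, hio⟩), E.N_ne_top⟩
  haveI := hsimple
  rcases hcl with ⟨K, iK, iF, ⟨n, hn, hK⟩, ⟨e⟩⟩ | ⟨⟨S⟩⟩
  · haveI : CharP K 2 := by
      obtain ⟨p, hp⟩ := CharP.exists K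
      obtain ⟨j, hpp, hj⟩ := FiniteField.card K p
      have hdvd : p ∣ 2 ^ n := by rw [← hK, hj]; exact dvd_pow_self p (PNat.ne_zero j)
      exact (Nat.prime_dvd_prime_iff_eq hpp Nat.prime_two).1 (hpp.dvd_of_dvd_pow hdvd) ▸ hp
    obtain ⟨x, hx⟩ : ∃ x : G, orderOf x = 3 := by
      haveI : Fact (Nat.Prime 3) := ⟨Nat.prime_three⟩
      refine exists_prime_orderOf_dvd_card' 3 ?_
      refine dvd_trans ?_ (Subgroup.card_quotient_dvd_card Q)
      rw [Nat.card_congr e.toEquiv, GLOrder.card_SL_two, Nat.card_eq_fintype_card, hK]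
      refine Dvd.dvd.mul_left ?_ _
      rw [← pow_mul, mul_comm, pow_mul]
      simpa using Nat.sub_dvd_pow_sub_pow 4 1 n
    obtain ⟨⟨hab, hsq⟩, -⟩ := S3050.result Q hQ2 n hn K hK e x hx fun q hq h =>
      hcen x (hx ▸ by decide) (fun h1 => by rw [h1, orderOf_one] at hx; omega) q hq
        (mul_inv_eq_iff_eq_mul.1 h)
    refine ⟨hab, fun a ha => by rw [← pow_two]; exact hsq a ha, Or.inl ⟨K, iK, iF, inferInstance, ?_, ?_⟩⟩
    · rw [hK, show (4 : ℕ) = 2 ^ 2 from rfl]; exact Nat.pow_le_pow_right (by norm_num) hn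
    · obtain ⟨e'⟩ := FrobSystem.sl_equiv_psl K
      exact ⟨e.trans e'⟩
  · obtain ⟨F, iF, iFt, m, hm, hF, ⟨e⟩⟩ := S.isoSuzuki
    let π : G →* Cfsg.Sz F m :=
      (e.trans (Suzuki.lieEquiv hm hF).symm).toMonoidHom.comp (QuotientGroup.mk' Q)
    have hker : π.ker = Q := by
      ext x
      rw [MonoidHom.mem_ker]
      exact ((e.trans (Suzuki.lieEquiv hm hF).symm).map_eq_one_iff).trans (QuotientGroup.eq_one_iff x)
    obtain ⟨hab, hsq⟩ := SzModule.elementary_kernel hm hF _ π le_rfl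
      ((e.trans (Suzuki.lieEquiv hm hF).symm).surjective.comp (QuotientGroup.mk'_surjective Q))
      (hker ▸ hQ2) (hker ▸ hcen)
    rw [hker] at hab hsq
    exact ⟨⟨⟨fun a b => Subtype.ext (hab a a.2 b b.2)⟩⟩, hsq, Or.inr S.isSuzukiOrder⟩

end Cfsg.Agent.CNStruct
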