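/-
CIT groups without solvable normal subgroups.

* `exists_central_mem` : a nontrivial normal subgroup meets the centre of a Sylow 2-subgroup
* `false_of_outer`     : no outer involution commuting only with central inner involutions
-/
import Cfsg.Agent.Lib.CIT.Master
import Cfsg.Agent.Lib.OddOrderTheorem.Basic
import Cfsg.Agent.Lib.InvertedOdd.Semisimple

set_option autoImplicit false

open Cfsg
open scoped Pointwise

namespace Cfsg.Agent.CNStruct

variable {G : Type*} [Group G] [Finite G]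

theorem two_dvd_normal (hs : InvertedOdd.NoSolvableNormal G) {N : Subgroup G} (hN : N.Normal) (h1 : N ≠ ⊥) :
    2 ∣ Nat.card N := by
  by_contra h
  exact h1 (hs N hN (OddOrderTheorem.solvable (Nat.not_even_iff_odd.1 fun he => h he.two_dvd)))

theorem card_two_of_normal (hs : InvertedOdd.NoSolvableNormal G) {N : Subgroup G} (hN : N.Normal) (h1 : N ≠ ⊥)
    (S : Sylow 2 G) : 2 ∣ Nat.card ↥(N ⊓ (S : Subgroup G)) := by
  haveI : Fact (Nat.Prime 2) := ⟨Nat.prime_two⟩
  obtain ⟨x, hx⟩ := exists_prime_orderOf_dvd_card' (G := N) 2 (two_dvd_normal hs hN h1)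
  have hxo : orderOf (x : G) = 2 := by rw [Subgroup.orderOf_coe, hx]
  obtain ⟨P, hP⟩ := (IsPGroup.of_card (n := 1)
    (show Nat.card (Subgroup.zpowers (x : G)) = 2 ^ 1 by rw [Nat.card_zpowers, hxo, pow_one])).exists_le_sylow
  obtain ⟨g, rfl⟩ := MulAction.exists_smul_eq G S P
  obtain ⟨y, hy, hyx⟩ := (Sylow.coe_subgroup_smul (g := g) (P := S)) ▸ hP (Subgroup.mem_zpowers (x : G))
  have hyx' : g * y * g⁻¹ = (x : G) := hyx
  have hyN : y ∈ N := by
    have h := hN.conj_mem _ x.2 g⁻¹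
    rwa [← hyx', show g⁻¹ * (g * y * g⁻¹) * g⁻¹⁻¹ = y by group] at h
  have hyo : orderOf y = 2 := by rw [← hxo, ← hyx', Involution.orderOf_conj]
  have hd := Subgroup.orderOf_dvd_natCard _ (show y ∈ N ⊓ (S : Subgroup G) from ⟨hyN, hy⟩)
  rwa [hyo] at hd

/-- A nontrivial normal subgroup meets the centre of a Sylow 2-subgroup. -/
theorem exists_central_mem (hs : InvertedOdd.NoSolvableNormal G) {N : Subgroup G} (hN : N.Normal) (h1 : N ≠ ⊥)
    (S : Sylow 2 G) : ∃ x ∈ N, x ∈ (S : Subgroup G) ∧ x ≠ 1 ∧ ∀ s ∈ (S : Subgroup G), s * x = x * s := by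
  haveI : Fact (Nat.Prime 2) := ⟨Nat.prime_two⟩
  have h2 := card_two_of_normal hs hN h1 S
  have hS : ¬ 2 ∣ Nat.card (((N ⊓ (S : Subgroup G) : Subgroup G) : Set G) \ {1} : Set G) := by
    rw [Nat.card_coe_set_eq, Set.ncard_diff_singleton_of_mem (Subgroup.one_mem _), ← Nat.card_coe_set_eq]
    have := Nat.card_pos (α := ↥(N ⊓ (S : Subgroup G)))
    have e : Nat.card (((N ⊓ (S : Subgroup G) : Subgroup G) : Set G)) = Nat.card ↥(N ⊓ (S : Subgroup G)) := rfl
    omega
  obtain ⟨x, ⟨⟨hxN, hxS⟩, hx1⟩, hfix⟩ := Signalizer.exists_fixed_mem S.2 _ hS fun a ha x hx =>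
    ⟨⟨hN.conj_mem x hx.1.1 a, S.1.mul_mem (S.1.mul_mem ha hx.1.2) (S.1.inv_mem ha)⟩, fun e => hx.2 (by
      rw [Set.mem_singleton_iff] at e ⊢
      exact conj_eq_one_iff.1 e)⟩
  exact ⟨x, hxN, hxS, hx1, fun s hs => mul_inv_eq_iff_eq_mul.1 (hfix s hs)⟩

/-- If every involution of `K ∩ S` commuting with an involution of `S` outside `K` is central in the
Sylow subgroup `S`, then `S` has no involution outside `K`. -/
theorem false_of_outer (hG : CIT.IsCIT G) (hs : InvertedOdd.NoSolvableNormal G) (S : Sylow 2 G) {K : Subgroup G}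
    (hK : K.Normal) (hK1 : K ≠ ⊥) {r : G} (hr : orderOf r = 2) (hrS : r ∈ (S : Subgroup G)) (hrK : r ∉ K)
    (h : ∀ u ∈ (S : Subgroup G), orderOf u = 2 → u ∉ K → ∀ x ∈ (S : Subgroup G), x ∈ K → orderOf x = 2 →
      x * u = u * x → ∀ s ∈ (S : Subgroup G), s * x = x * s) : False := by
  classical
  haveI : Fact (Nat.Prime 2) := ⟨Nat.prime_two⟩
  have hCx : ∀ x : G, orderOf x = 2 → (∀ s ∈ (S : Subgroup G), s * x = x * s) →
      Subgroup.centralizer ({x} : Set G) = (S : Subgroup G) := fun x hx hc =>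
    S.3 (hG x hx) fun s hs' => Subgroup.mem_centralizer_singleton_iff.2 (hc s hs')
  -- the centraliser of an outer involution lies in `S`
  have hW : ∀ u ∈ (S : Subgroup G), orderOf u = 2 → u ∉ K →
      Subgroup.centralizer ({u} : Set G) ≤ (S : Subgroup G) := by
    intro u hu huo huK
    set W := Subgroup.centralizer ({u} : Set G) with hWdef
    by_contra hle
    obtain ⟨w, hwW, hwV, hwn⟩ := CIT.exists_normalizing (hG u huo) (H := W ⊓ (S : Subgroup G)) inf_le_left
      fun e => hle (e.ge.trans inf_le_right)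
    have hwS : w ∉ (S : Subgroup G) := fun h' => hwV ⟨hwW, h'⟩
    -- an inner involution centralising `u`
    obtain ⟨x, hxK, hxS, hx, hxu⟩ : ∃ x ∈ K, x ∈ (S : Subgroup G) ∧ orderOf x = 2 ∧ x * u = u * x := by
      obtain ⟨z, hzK, hzS, hz1, hzc⟩ := exists_central_mem hs hK hK1 S
      obtain ⟨k, hk⟩ := IsPGroup.iff_orderOf.1 S.2 ⟨z, hzS⟩
      rw [Subgroup.orderOf_mk] at hk
      have hk0 : k ≠ 0 := fun e => hz1 (orderOf_eq_one_iff.1 (by rw [hk, e, pow_zero]))
      refine ⟨z ^ (orderOf z / 2), K.pow_mem hzK _, S.1.pow_mem hzS _,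
        orderOf_pow_orderOf_div (orderOf_pos z).ne' (hk ▸ dvd_pow_self 2 hk0), ?_⟩
      exact ((show Commute u z from hzc u hu).pow_right _).eq.symm
    have hxc := h u hu huo huK x hxS hxK hx hxu
    set x' := w * x * w⁻¹ with hx'
    have hwu : w * u = u * w := Subgroup.mem_centralizer_singleton_iff.1 hwW
    have hx'V : x' ∈ W ⊓ (S : Subgroup G) := (Subgroup.mem_normalizer_iff.1 hwn x).1
      ⟨Subgroup.mem_centralizer_singleton_iff.2 hxu, hxS⟩
    have hx'o : orderOf x' = 2 := by rw [hx', Involution.orderOf_conj, hx]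
    have hx'c := h u hu huo huK x' hx'V.2 (hK.conj_mem x hxK w) hx'o
      (Subgroup.mem_centralizer_singleton_iff.1 hx'V.1)
    -- `w` normalises `S`
    have hwnS : w ∈ Subgroup.normalizer ((S : Subgroup G) : Set G) := by
      refine Subgroup.mem_normalizer_fintype fun s hs' => ?_
      rw [SetLike.mem_coe, ← hCx x' hx'o hx'c, Subgroup.mem_centralizer_singleton_iff, hx']
      calc w * s * w⁻¹ * (w * x * w⁻¹) = w * (s * x) * w⁻¹ := by group
        _ = w * x * w⁻¹ * (w * s * w⁻¹) := by rw [hxc s hs']; group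
    obtain ⟨j, hj⟩ := IsPGroup.iff_orderOf.1 (hG u huo) ⟨w, hwW⟩
    rw [Subgroup.orderOf_mk] at hj
    have hsup := S.3 (S.2.to_sup_of_normal_left'
      (IsPGroup.of_card (n := j) (show Nat.card (Subgroup.zpowers w) = 2 ^ j by rw [Nat.card_zpowers, hj]))
      (Subgroup.zpowers_le.2 hwnS)) le_sup_left
    exact hwS (hsup.le (Subgroup.mem_sup_right (Subgroup.mem_zpowers w)))
  -- every inner involution lies in `S`
  have hin : ∀ z ∈ K, orderOf z = 2 → z ∈ (S : Subgroup G) := by
    intro z hzK hz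
    have hnc : ¬ IsConj r z := fun hc => by
      obtain ⟨g, hg⟩ := isConj_iff.1 hc
      have := hK.conj_mem z hzK g⁻¹
      rw [← hg, show g⁻¹ * (g * r * g⁻¹) * g⁻¹⁻¹ = r by group] at this
      exact hrK this
    obtain ⟨v, hv, hvr, hvz, -⟩ := Involution.exists_commuting_involution hr hz
      (Involution.even_of_not_isConj hr hz hnc)
    have hvS : v ∈ (S : Subgroup G) := hW r hrS hr hrK (Subgroup.mem_centralizer_singleton_iff.2 hvr.eq)
    by_cases hvK : v ∈ K
    · rw [← hCx v hv (h r hrS hr hrK v hvS hvK hv hvr.eq), Subgroup.mem_centralizer_singleton_iff]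
      exact hvz.eq.symm
    · exact hW v hvS hv hvK (Subgroup.mem_centralizer_singleton_iff.2 hvz.eq.symm)
  -- so they generate a normal 2-subgroup
  set X := Subgroup.closure {z : G | z ∈ K ∧ orderOf z = 2} with hX
  have hXS : X ≤ (S : Subgroup G) := by
    rw [hX, Subgroup.closure_le]
    exact fun z hz => hin z hz.1 hz.2
  haveI : X.Normal := by
    refine ⟨fun n hn g => ?_⟩
    have hle : X.map (MulAut.conj g).toMonoidHom ≤ X := by
      rw [hX, MonoidHom.map_closure, Subgroup.closure_le]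
      rintro _ ⟨z, ⟨hzK, hz⟩, rfl⟩
      refine Subgroup.subset_closure ⟨hK.conj_mem z hzK g, ?_⟩
      show orderOf (g * z * g⁻¹) = 2
      rw [Involution.orderOf_conj, hz]
    exact hle ⟨n, hn, rfl⟩
  haveI : Group.IsNilpotent X := (S.2.to_le hXS).isNilpotent
  have hX1 := hs X inferInstance inferInstance
  obtain ⟨x, hx⟩ := exists_prime_orderOf_dvd_card' (G := K) 2 (two_dvd_normal hs hK hK1)
  have hxo : orderOf (x : G) = 2 := by rw [Subgroup.orderOf_coe, hx]
  have hxX : (x : G) ∈ X := Subgroup.subset_closure ⟨x.2, hxo⟩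
  rw [hX1, Subgroup.mem_bot] at hxX
  exact Involution.ne_one hxo hxX

end Cfsg.Agent.CNStruct
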